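import Cfsg.Agent.Omega.NO3b.BetaTwo.Def
import Cfsg.Agent.Omega.NOne.Flat.Nine

/-!
# THEOREM BETA2 (bb #20914), step (5): the count

* `step_prod` : the stepwise product: if `|D : C_D(Y_i)| ≤ |Y_i : C_{Y_i}(D)|` for all `D ≤ E` and `B = ⟨Y_i⟩`, then
  `|E : C_E(B)| ≤ |B : C_B(E)|`;
* `Bt.comm_mem_F` : `[U^h, B ∩ Q^h] ≤ F^h`;
* `Bt.two_le` : `|B : B ∩ Q^h|² ≤ |U^h : C(B)|`;
* **`Bt.count`** : `2 |B : B ∩ N| ≤ |V' : E|²`.
-/

set_option autoImplicit false

namespace Cfsg.Agent.Omega.NO3b.BetaTwo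

open Subgroup Cfsg Cfsg.Agent.ZN Cfsg.Agent.ZN.ChoiceBase
open Cfsg.Agent.ZN.ChoiceSit (Syl exists_syl syl_conj o2_le_syl)
open Cfsg.Agent.MinSimple.VModule (oddGen)
open Cfsg.Agent.Omega.NO3b.EZero
open Cfsg.Agent.Omega.NO3b.K0 (NoOv cj_of_le cj_self cj_bot' two_mul_le_of_lt two_le_of_ne cent_sup conj_mem')
open Cfsg.Agent.Omega.NO3b.K0.Mix (Pan SM Two Crit)
open Cfsg.Agent.Omega.NOne.Flat (EE WW NN Bad)
open Cfsg.Agent.Omega.NOne.NearFF (c c_def)
open scoped commutatorElement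

universe u v

variable {G : Type u} [Group G]

/-- **the stepwise product** -/
theorem step_prod [Finite G] {ι : Type v} {Y : ι → Subgroup G} {B E : Subgroup G} (hgen : B ≤ ⨆ i, Y i)
    (hYB : ∀ i, Y i ≤ B)
    (hno : ∀ i, ∀ D : Subgroup G, D ≤ E →
      (centralizer (Y i : Set G)).relIndex D ≤ (centralizer (D : Set G)).relIndex (Y i)) :
    (centralizer (B : Set G)).relIndex E ≤ (centralizer (E : Set G)).relIndex B := by
  let P : Subgroup G → Prop := fun K => B ⊓ centralizer (E : Set G) ≤ K ∧ K ≤ B ∧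
    (centralizer (K : Set G)).relIndex E ≤ (B ⊓ centralizer (E : Set G)).relIndex K
  have hP0 : P (B ⊓ centralizer (E : Set G)) := by
    refine ⟨le_rfl, inf_le_left, ?_⟩
    rw [relIndex_self, relIndex_eq_one.2 (cent_symm inf_le_right)]
  obtain ⟨K, hK, hmax⟩ := Set.exists_max_image {K : Subgroup G | P K} (fun K => Nat.card K)
    (Set.toFinite _) ⟨_, hP0⟩
  obtain ⟨hK1, hK2, hK3⟩ : P K := hK
  have hKB : B ≤ K := by
    refine hgen.trans (iSup_le fun i => ?_)
    have hPK : P (K ⊔ Y i) := by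
      refine ⟨hK1.trans le_sup_left, sup_le hK2 (hYB i), ?_⟩
      rw [cent_sup, ← relIndex_inf_mul_relIndex]
      have h1 := hno i (centralizer (K : Set G) ⊓ E) inf_le_right
      have h2 : (centralizer ((centralizer (K : Set G) ⊓ E : Subgroup G) : Set G)).relIndex (Y i) ≤
          K.relIndex (K ⊔ Y i) := by
        refine le_trans (relIndex_le_of_le_left (H := K) ?_ index_ne_zero_of_finite)
          (relIndex_le_of_le_right le_sup_right index_ne_zero_of_finite)
        exact cent_symm inf_le_left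
      have h3 := relIndex_mul_relIndex (B ⊓ centralizer (E : Set G)) K (K ⊔ Y i) hK1 le_sup_left
      rw [← h3, mul_comm ((B ⊓ centralizer (E : Set G)).relIndex K)]
      exact Nat.mul_le_mul (h1.trans h2) hK3
    have h4 := hmax _ hPK
    have h5 : K = K ⊔ Y i := eq_of_le_of_card_ge le_sup_left h4
    exact le_sup_right.trans h5.ge
  have h6 : K = B := le_antisymm hK2 hKB
  rw [h6, inf_relIndex_left] at hK3
  exact hK3

theorem cj_cents (g : G) (A : Subgroup G) :
    cj g (centralizer (A : Set G)) = centralizer ((cj g A : Subgroup G) : Set G) := by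
  apply le_antisymm
  · exact cj_cent le_rfl
  · have h1 : cj g⁻¹ (centralizer ((cj g A : Subgroup G) : Set G)) ≤ centralizer (A : Set G) := by
      have := cj_cent (g := g⁻¹) (A := centralizer ((cj g A : Subgroup G) : Set G)) (B := cj g A) le_rfl
      rwa [cj_inv_cj] at this
    rw [cj_le_iff, inv_inv] at h1
    exact h1

/-- no over-offenders on a conjugate -/
theorem noOver_cj {V X : Subgroup G} (h : NoOver V X) (y : G) {D : Subgroup G} (hD : D ≤ cj y X)
    (h2 : ∀ a ∈ D, a ^ 2 = 1) (hc : D ≤ centralizer (D : Set G)) :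
    (centralizer ((cj y (cl V X) : Subgroup G) : Set G)).relIndex D ≤
      (centralizer (D : Set G)).relIndex (cj y (cl V X)) := by
  have h1 := h (cj y⁻¹ D) (by rw [cj_le_iff, inv_inv]; exact hD) (fun a ha => by
    rw [mem_cj, inv_inv] at ha
    have h3 := h2 _ ha
    have e : a ^ 2 = y⁻¹ * (y * a * y⁻¹) ^ 2 * y := by rw [pow_two, pow_two]; group
    rw [e, h3, mul_one, inv_mul_cancel]
    exact one_mem _) (fun a ha b hb => by
    rw [mem_cj, inv_inv] at ha hb
    have h3 := mem_centralizer_iff.1 (hc ha) _ hb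
    have e : a * b * a⁻¹ * b⁻¹ = y⁻¹ * ((y * a * y⁻¹) * (y * b * y⁻¹) * (y * a * y⁻¹)⁻¹ * (y * b * y⁻¹)⁻¹) * y := by
      group
    rw [e, ← h3, mul_inv_cancel_right, mul_inv_cancel, mul_one, inv_mul_cancel]
    exact one_mem _)
  have e1 : (centralizer (cl V X : Set G)).relIndex (cj y⁻¹ D) =
      (centralizer ((cj y (cl V X) : Subgroup G) : Set G)).relIndex D := by
    rw [← relIndex_cj y, cj_cj_inv, cj_cents]
  have e2 : (centralizer ((cj y⁻¹ D : Subgroup G) : Set G)).relIndex (cl V X) =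
      (centralizer (D : Set G)).relIndex (cj y (cl V X)) := by
    rw [← relIndex_cj y, cj_cents, cj_cj_inv]
  rw [e1, e2] at h1
  exact h1

namespace Bt

variable [Finite G] {V F T X L Q0 V' F₁ : Subgroup G} (t : Bt V F T X L Q0 V' F₁)
include t

/-- `C_{V^{hx}}(w) ≤ F^h` for `w ∈ X^h - N(V^{hx})` -/
theorem cent_le_cj {h x w v : G} (hx : x ∈ X) (hw : w ∈ cj h X)
    (hn : w ∉ normalizer ((cj (h * x) V : Subgroup G) : Set G)) (hv : v ∈ cj (h * x) V) (hc : v * w = w * v) :
    v ∈ cj h F := by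
  rw [mem_cj]
  refine t.pan.cent_le (x := x) (w := h⁻¹ * w * h) hx (mem_cj.1 hw) (fun h0 => hn ?_) (v := h⁻¹ * v * h) ?_ ?_
  · have h1 := mem_normalizer_iff_cj.1 h0
    rw [mem_normalizer_iff_cj]
    have h2 := congrArg (cj h) h1
    rw [cj_cj, cj_cj, cj_cj] at h2
    rw [cj_cj]
    convert h2 using 2
    group
  · rw [← cj_cj, mem_cj] at hv
    exact hv
  · have e1 : h⁻¹ * v * h * (h⁻¹ * w * h) = h⁻¹ * (v * w) * h := by group
    have e2 : h⁻¹ * w * h * (h⁻¹ * v * h) = h⁻¹ * (w * v) * h := by group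
    rw [e1, e2, hc]

/-- `[U^h, B ∩ Q^h] ≤ F^h` -/
theorem comm_mem_F {h : G} (hB : BB V X F₁ ≤ cj h Q0) (hU : cj h (cl V X) ≤ V')
    (hline : ∀ x ∈ X, BB V X F₁ ≤ normalizer ((cj (h * x) V : Subgroup G) : Set G) →
      BB V X F₁ ≤ centralizer ((cj (h * x) V : Subgroup G) : Set G))
    {u e : G} (hu : u ∈ cj h (cl V X)) (he : e ∈ BB V X F₁) (heQ : e ∈ cj h (o2 X)) : ⁅u, e⁆ ∈ cj h F := by
  let K : Subgroup G :=
    { carrier := {u | u ∈ cj h (cl V X) ∧ ⁅u, e⁆ ∈ cj h F}
      one_mem' := ⟨one_mem _, by rw [commutatorElement_one_left]; exact one_mem _⟩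
      mul_mem' := by
        rintro a b ⟨ha, ha'⟩ ⟨hb, hb'⟩
        refine ⟨mul_mem ha hb, ?_⟩
        have e1 : ⁅a * b, e⁆ = (a * ⁅b, e⁆ * a⁻¹) * ⁅a, e⁆ := by
          simp only [commutatorElement_def]; group
        have hXF : cj h X ≤ centralizer ((cj h F : Subgroup G) : Set G) := cj_cent t.pan.X_le
        have h1 := mem_centralizer_iff.1 (hXF (cj_mono h t.pan.U_le_X ha)) _ hb'
        rw [e1, ← h1, mul_inv_cancel_right]
        exact mul_mem hb' ha'
      inv_mem' := by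
        rintro a ⟨ha, ha'⟩
        refine ⟨inv_mem ha, ?_⟩
        have e1 : ⁅a⁻¹, e⁆ = a⁻¹ * ⁅a, e⁆⁻¹ * a := by
          simp only [commutatorElement_def]; group
        have hXF : cj h X ≤ centralizer ((cj h F : Subgroup G) : Set G) := cj_cent t.pan.X_le
        have h1 := mem_centralizer_iff.1 (hXF (cj_mono h t.pan.U_le_X (inv_mem ha))) _ (inv_mem ha')
        rw [e1, ← h1, mul_assoc, inv_mul_cancel, mul_one]
        exact inv_mem ha' }
  have key : cj h (cl V X) ≤ K := by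
    unfold cl
    rw [EZero.cj_iSup]
    refine iSup_le fun x => ?_
    rw [cj_cj]
    intro v hv
    have hvU : v ∈ cj h (cl V X) := by
      rw [← cj_cj] at hv
      exact cj_mono h (cj_le_cl x.2) hv
    refine ⟨hvU, ?_⟩
    by_cases hn : BB V X F₁ ≤ normalizer ((cj (h * x) V : Subgroup G) : Set G)
    · have h1 := mem_centralizer_iff.1 (hline x x.2 hn he) v hv
      have h2 : ⁅v, e⁆ = 1 := by rw [commutatorElement_eq_one_iff_mul_comm]; exact h1
      rw [h2]; exact one_mem _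
    · rw [SetLike.not_le_iff_exists] at hn
      obtain ⟨w, hw, hwn⟩ := hn
      have h3 : ⁅v, e⁆ ∈ cj (h * x) V := by
        have h4 : cj h (o2 X) ≤ normalizer ((cj (h * x) V : Subgroup G) : Set G) := by
          have := cj_norm (g := h) (t.pan.o2_norm_line x.2)
          rwa [cj_cj] at this
        have h1 := conj_mem' h4 heQ (inv_mem hv)
        have e1 : ⁅v, e⁆ = v * (e * v⁻¹ * e⁻¹) := by simp only [commutatorElement_def]; group
        rw [e1]
        exact mul_mem hv h1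
      have h5 : ⁅v, e⁆ ∈ BB V X F₁ := by
        have h1 := conj_mem' X'_norm_B (t.V'_le_X' (hU hvU)) he
        rw [commutatorElement_def]
        exact (BB V X F₁).mul_mem h1 ((BB V X F₁).inv_mem he)
      exact t.cent_le_cj x.2 (cj_mono h t.pan.Q0_X (hB hw)) hwn h3
        (mem_centralizer_iff.1 (t.B_comm h5) w hw).symm
  exact (key hu).2

/-- `|B : B ∩ Q^h|² ≤ |U^h : C(B)|` -/
theorem two_le {h : G} (hB : BB V X F₁ ≤ cj h Q0) :
    (cj h (o2 X)).relIndex (BB V X F₁) * (cj h (o2 X)).relIndex (BB V X F₁) ≤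
      (centralizer (BB V X F₁ : Set G)).relIndex (cj h (cl V X)) := by
  obtain ⟨N, hN, hXN, hE, hE'⟩ := t.two
  have hBX : cj h⁻¹ (BB V X F₁) ≤ X := by
    rw [cj_le_iff, inv_inv]
    exact hB.trans (cj_mono h t.pan.Q0_X)
  have h3 := t.noov.two hN t.pan.U_le_X t.pan.U_sq t.pan.U_comm hXN (le_normalizer_cl V X) hE hE' hBX
    (fun a ha => by
      rw [mem_cj, inv_inv] at ha
      have h4 := t.B_sq _ ha
      have e : a ^ 2 = h⁻¹ * (h * a * h⁻¹) ^ 2 * h := by rw [pow_two, pow_two]; group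
      rw [e, h4, mul_one, inv_mul_cancel]
      exact one_mem _) (fun a ha b hb => by
      rw [mem_cj, inv_inv] at ha hb
      have h4 := mem_centralizer_iff.1 (t.B_comm ha) _ hb
      have e : a * b * a⁻¹ * b⁻¹ = h⁻¹ * ((h * a * h⁻¹) * (h * b * h⁻¹) * (h * a * h⁻¹)⁻¹ * (h * b * h⁻¹)⁻¹) * h := by
        group
      rw [e, ← h4, mul_inv_cancel_right, mul_inv_cancel, mul_one, inv_mul_cancel]
      exact one_mem _)
  have e1 : (o2 X).relIndex (cj h⁻¹ (BB V X F₁)) = (cj h (o2 X)).relIndex (BB V X F₁) := by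
    rw [← relIndex_cj h, cj_cj_inv]
  have e2 : (centralizer ((cj h⁻¹ (BB V X F₁) : Subgroup G) : Set G)).relIndex (cl V X) =
      (centralizer (BB V X F₁ : Set G)).relIndex (cj h (cl V X)) := by
    rw [← relIndex_cj h, cj_cents, cj_cj_inv]
  rw [e1, e2] at h3
  exact h3

/-- `|D : C_D(B)| ≤ |B : C_B(D)|` for `D ≤ E` -/
theorem noover_B {D : Subgroup G} (hD : D ≤ EE V' F₁) :
    (centralizer (BB V X F₁ : Set G)).relIndex D ≤ (centralizer (D : Set G)).relIndex (BB V X F₁) := by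
  refine step_prod (Y := fun y : centralizer (F₁ : Set G) => cj (y : G) (cl V X)) le_rfl
    (fun y => cj_le_cl y.2) fun y D' hD' => ?_
  have hDV : D' ≤ V' := (hD'.trans hD).trans inf_le_left
  refine noOver_cj t.hno y ?_ (fun a ha => t.hy.sq a (hDV ha)) (hDV.trans (t.hy.comm.trans (centralizer_le hDV)))
  exact ((hD'.trans hD).trans NOne.Flat.Hyp.E_le_W).trans ((t.W_le_cj y.2).trans (cj_mono _ t.pan.Q0_X))

/-- **(5)** -/
theorem count {h : G} (hB : BB V X F₁ ≤ cj h Q0) (hU : cj h (cl V X) ≤ V')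
    (hE : ¬ cj h (cl V X) ≤ EE V' F₁)
    (hline : ∀ x ∈ X, BB V X F₁ ≤ normalizer ((cj (h * x) V : Subgroup G) : Set G) →
      BB V X F₁ ≤ centralizer ((cj (h * x) V : Subgroup G) : Set G)) :
    2 * (NN V' F₁).relIndex (BB V X F₁) ≤ (EE V' F₁).relIndex V' * (EE V' F₁).relIndex V' := by
  set B := BB V X F₁ with hBdef
  set E := EE V' F₁ with hEdef
  set Q := cj h (o2 X) with hQ
  set U := cj h (cl V X) with hUdef
  -- a bad line
  have hl : ∃ x ∈ X, ¬ cj (h * x) V ≤ E := by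
    by_contra hcon
    push Not at hcon
    apply hE
    rw [hUdef]
    unfold cl
    rw [EZero.cj_iSup]
    refine iSup_le fun y => ?_
    rw [cj_cj]
    exact hcon y y.2
  obtain ⟨x, hx, hlE⟩ := hl
  set lam := cj (h * x) V with hlam
  have hlU : lam ≤ U := by
    rw [hlam, ← cj_cj]
    exact cj_mono h (cj_le_cl hx)
  have hlF : lam ⊓ F₁ = ⊥ := by
    by_contra h0
    exact hlE (t.le_E (hlU.trans hU) h0)
  have hFF : cj h F ⊓ F₁ = ⊥ := by
    rw [← le_bot_iff, ← hlF]
    refine inf_le_inf_right _ ?_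
    rw [hlam, ← cj_cj]
    exact cj_mono h (t.pan.F_le_line hx)
  -- `[E₂, E₁] = 1`
  have hcomm : B ⊓ Q ≤ centralizer ((U ⊓ E : Subgroup G) : Set G) := by
    rintro e ⟨heB, heQ⟩
    rw [mem_centralizer_iff]
    rintro u ⟨huU, huE⟩
    have h1 := t.comm_mem_F hB hU hline huU heB heQ
    have h2 : ⁅u, e⁆ ∈ F₁ := by
      rw [commutatorElement_def]
      exact t.hy.comm_EW huE (t.B_le_W heB)
    have h3 : ⁅u, e⁆ ∈ cj h F ⊓ F₁ := ⟨h1, h2⟩
    rw [hFF, mem_bot, commutatorElement_eq_one_iff_mul_comm] at h3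
    exact h3
  have hX0 : 0 < Q.relIndex B := Nat.pos_of_ne_zero index_ne_zero_of_finite
  -- `x ≤ ε`
  have hE2 : (centralizer (B : Set G)).relIndex (U ⊓ E) ≤ Q.relIndex B := by
    have h1 := t.noover_B (D := U ⊓ E) inf_le_right
    have h2 : (centralizer ((U ⊓ E : Subgroup G) : Set G)).relIndex B ≤ (B ⊓ Q).relIndex B :=
      relIndex_le_of_le_left hcomm index_ne_zero_of_finite
    rw [inf_relIndex_left] at h2
    exact h1.trans h2
  have hUE : E.relIndex U ≤ E.relIndex V' := relIndex_le_of_le_right hU index_ne_zero_of_finite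
  have hxe : Q.relIndex B ≤ E.relIndex V' := by
    have h1 := t.two_le hB
    have h2 : (centralizer (B : Set G)).relIndex U ≤ (centralizer (B : Set G) ⊓ E).relIndex U :=
      relIndex_le_of_le_left inf_le_left index_ne_zero_of_finite
    rw [← relIndex_inf_mul_relIndex, inf_comm E U] at h2
    have h3 : Q.relIndex B * Q.relIndex B ≤ Q.relIndex B * E.relIndex V' :=
      h1.trans (h2.trans (Nat.mul_le_mul hE2 hUE))
    exact Nat.le_of_mul_le_mul_left h3 hX0
  -- `|B : B ∩ N| ≤ |B : E₁| |E₁ : E₁ ∩ N|`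
  have hN : (NN V' F₁).relIndex B ≤ (NN V' F₁).relIndex (B ⊓ Q) * Q.relIndex B := by
    rw [inf_comm B Q, relIndex_inf_mul_relIndex]
    exact relIndex_le_of_le_left inf_le_left index_ne_zero_of_finite
  -- the bad line
  have hcN : centralizer (lam : Set G) ⊓ (B ⊓ Q) ≤ NN V' F₁ := by
    rintro s ⟨hs1, hs2, -⟩
    rw [SetLike.not_le_iff_exists] at hlE
    obtain ⟨w, hw, hwE⟩ := hlE
    have hwV : w ∈ V' := hU (hlU hw)
    rw [← t.hy.c_mem_F_iff hwV hwE (t.B_le_W hs2)]
    have h1 := mem_centralizer_iff.1 hs1 w hw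
    rw [c_def, h1, mul_inv_cancel_right, mul_inv_cancel]
    exact one_mem _
  have hNl : (NN V' F₁).relIndex (B ⊓ Q) ≤ (centralizer (lam : Set G)).relIndex (B ⊓ Q) := by
    have h1 := relIndex_le_of_le_left (L := B ⊓ Q) hcN index_ne_zero_of_finite
    rwa [inf_relIndex_right] at h1
  have hmain : 2 * (NN V' F₁).relIndex (B ⊓ Q) ≤ E.relIndex V' := by
    by_cases hc : B ⊓ Q ≤ centralizer (lam : Set G)
    · have h1 : (NN V' F₁).relIndex (B ⊓ Q) = 1 := by
        rw [relIndex_eq_one]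
        exact (le_inf hc le_rfl).trans hcN
      rw [h1, mul_one]
      exact two_le_of_ne fun h0 => hE (hU.trans h0)
    · have h5 := (t.pan.nff.cj (h * x)) (B ⊓ Q) (t.isPGroup_B.to_le inf_le_left)
        (inf_le_right.trans (by
          have := cj_norm (g := h) (t.pan.o2_norm_line hx)
          rwa [cj_cj] at this))
        (fun a ha => by rw [t.B_sq a ha.1]; exact one_mem _)
        (fun a ha b hb => by
          have e : a * b = b * a := (mem_centralizer_iff.1 (t.B_comm ha.1) b hb.1).symm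
          rw [e, mul_inv_cancel_right, mul_inv_cancel]; exact one_mem _) hc
      have h6 := two_mul_le_of_lt (t.isPGroup_B.to_le inf_le_left)
        (isPGroup_cj _ t.pan.isPGroup_V) h5
      have h7 : (centralizer ((B ⊓ Q : Subgroup G) : Set G)).relIndex lam ≤ E.relIndex lam := by
        have h8 : E ⊓ lam ≤ centralizer ((B ⊓ Q : Subgroup G) : Set G) :=
          (le_inf (inf_le_right.trans hlU) inf_le_left).trans (cent_symm hcomm)
        have h9 := relIndex_le_of_le_left (L := lam) h8 index_ne_zero_of_finite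
        rwa [inf_relIndex_right] at h9
      have h8 : E.relIndex lam ≤ E.relIndex V' := relIndex_le_of_le_right (hlU.trans hU) index_ne_zero_of_finite
      calc 2 * (NN V' F₁).relIndex (B ⊓ Q) ≤ 2 * (centralizer (lam : Set G)).relIndex (B ⊓ Q) :=
            Nat.mul_le_mul_left 2 hNl
        _ ≤ _ := h6
        _ ≤ _ := h7
        _ ≤ _ := h8
  calc 2 * (NN V' F₁).relIndex B ≤ 2 * ((NN V' F₁).relIndex (B ⊓ Q) * Q.relIndex B) := Nat.mul_le_mul_left 2 hN
    _ = (2 * (NN V' F₁).relIndex (B ⊓ Q)) * Q.relIndex B := by ring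
    _ ≤ E.relIndex V' * E.relIndex V' := Nat.mul_le_mul hmain hxe

end Bt

end Cfsg.Agent.Omega.NO3b.BetaTwo
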