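import Cfsg.Agent.Omega.NO3b.K0.Mix.Main
import Cfsg.Agent.Omega.NOne.Flat.Off

/-!
# THEOREM BETA2 (helper235 #20914), step (7): the end

`V' = V_{LH}`, `F₁` maximal bad in `V'`, `W = WW V' F₁`, `U = cl V X ≤ E = EE V' F₁`, `[r, W] = ρ` is the same group
for all `r ∈ U - F₁`.

* `card_le` : a pairing `A × B → R` which is onto for every `a ∈ A - F` gives `|A : F| ≤ |B : C|`;
* `inf_F₁` : a line `V₁` moved by `W` meets `F₁` in `F`;
* `cent_moved` : `N_W(V₁)` centralises a moved line; `cent_unmoved` : `W` centralises an unmoved line;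
* `end_` : the contradiction.
-/

set_option autoImplicit false

namespace Cfsg.Agent.Omega.NO3b.BetaTwo

open Subgroup Cfsg Cfsg.Agent.ZN Cfsg.Agent.ZN.ChoiceBase
open Cfsg.Agent.ZN.ChoiceSit hiding EE
open Cfsg.Agent.MinSimple.VModule (oddGen oddGen_le)
open Cfsg.Agent.Omega.NO3b.EZero
open Cfsg.Agent.Omega.NO3b.K0 (NoOv)
open Cfsg.Agent.Omega.NO3b.K0.Mix (Pan Two)
open Cfsg.Agent.Omega.NOne (Flat.Hyp)
open Cfsg.Agent.Omega.NOne.Flat (EE WW)
open Cfsg.Agent.Omega.NOne.NearFF (c c_def)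

universe u

/-! ### a pairing -/

theorem sum_units {B : Type*} [Group B] [Fintype B] (t : B → ℤˣ) (ht : ∀ b b', t (b * b') = t b * t b') :
    ∑ b, ((t b : ℤˣ) : ℤ) = by classical exact if (∀ b, t b = 1) then (Fintype.card B : ℤ) else 0 := by
  classical
  split_ifs with h
  · simp [h]
  · push Not at h
    obtain ⟨c, hc⟩ := h
    have hc' : t c = -1 := (Int.units_eq_one_or (t c)).resolve_left hc
    have h1 : ∑ b, ((t b : ℤˣ) : ℤ) = ∑ b, ((t (c * b) : ℤˣ) : ℤ) :=
      (Fintype.sum_equiv (Equiv.mulLeft c) _ _ (fun b => rfl)).symm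
    have h2 : ∑ b, ((t (c * b) : ℤˣ) : ℤ) = - ∑ b, ((t b : ℤˣ) : ℤ) := by
      rw [← Finset.sum_neg_distrib]
      refine Finset.sum_congr rfl fun b _ => ?_
      rw [ht, hc']
      simp
    omega

/-- double counting for a pairing with values `±1` -/
theorem pairing_units {A B : Type*} [Group A] [Group B] [Finite A] [Finite B] (s : A → B → ℤˣ)
    (hl : ∀ a a' b, s (a * a') b = s a b * s a' b) (hr : ∀ a b b', s a (b * b') = s a b * s a b') :
    Nat.card {a // ∀ b, s a b = 1} * Nat.card B = Nat.card A * Nat.card {b // ∀ a, s a b = 1} := by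
  classical
  have := Fintype.ofFinite A
  have := Fintype.ofFinite B
  have h1 : ∑ a, ∑ b, ((s a b : ℤˣ) : ℤ) = Nat.card {a // ∀ b, s a b = 1} * Nat.card B := by
    have : ∀ a, ∑ b, ((s a b : ℤˣ) : ℤ) = if (∀ b, s a b = 1) then (Fintype.card B : ℤ) else 0 :=
      fun a => by
        rw [sum_units (s a) (hr a)]
    simp only [this]
    rw [Finset.sum_ite, Finset.sum_const_zero, add_zero, Finset.sum_const, nsmul_eq_mul,
      Nat.card_eq_fintype_card, Nat.card_eq_fintype_card, Fintype.card_subtype]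
  have h2 : ∑ b, ∑ a, ((s a b : ℤˣ) : ℤ) = Nat.card {b // ∀ a, s a b = 1} * Nat.card A := by
    have : ∀ b, ∑ a, ((s a b : ℤˣ) : ℤ) = if (∀ a, s a b = 1) then (Fintype.card A : ℤ) else 0 :=
      fun b => by
        rw [sum_units (fun a => s a b) (fun a a' => hl a a' b)]
    simp only [this]
    rw [Finset.sum_ite, Finset.sum_const_zero, add_zero, Finset.sum_const, nsmul_eq_mul,
      Nat.card_eq_fintype_card, Nat.card_eq_fintype_card, Fintype.card_subtype]
  rw [Finset.sum_comm, h2] at h1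
  have h3 : (Nat.card {a // ∀ b, s a b = 1} * Nat.card B : ℤ) =
      Nat.card A * Nat.card {b // ∀ a, s a b = 1} := by rw [← h1, mul_comm]
  exact_mod_cast h3

variable {G : Type u} [Group G]

/-- a maximal subgroup of an elementary abelian 2-group which avoids `d` has index 2 -/
theorem exists_two [Finite G] {R : Subgroup G} (hsq : ∀ r ∈ R, r ^ 2 = 1) (hc : R ≤ centralizer (R : Set G))
    (hne : R ≠ ⊥) : ∃ K : Subgroup G, ¬ R ≤ K ∧ ∀ a ∈ R, ∀ b ∈ R, (a * b ∈ K ↔ (a ∈ K ↔ b ∈ K)) := by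
  obtain ⟨⟨d, hd⟩, hd0⟩ := ne_bot_iff_exists_ne_one.1 hne
  have hd1 : d ≠ 1 := fun h => hd0 (Subtype.ext h)
  obtain ⟨K, hK, hmax⟩ := Set.exists_max_image {K : Subgroup G | K ≤ R ∧ d ∉ K} (fun K => Nat.card K)
    (Set.toFinite _) ⟨⊥, bot_le, fun h => hd1 (mem_bot.1 h)⟩
  obtain ⟨hKR, hdK⟩ := hK
  have hcm : ∀ a ∈ R, ∀ b ∈ R, a * b = b * a := fun a ha b hb => mem_centralizer_iff.1 (hc hb) a ha
  have hmul : ∀ a ∈ R, a * a = 1 := fun a ha => by have := hsq a ha; rwa [pow_two] at this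
  -- `a ∉ K ⟹ d a ∈ K`
  have key : ∀ a ∈ R, a ∉ K → d * a ∈ K := by
    intro a ha haK
    let K' : Subgroup G :=
      { carrier := {x | x ∈ K ∨ x * a ∈ K}
        one_mem' := Or.inl (one_mem _)
        mul_mem' := by
          rintro x y (hx | hx) (hy | hy)
          · exact Or.inl (mul_mem hx hy)
          · exact Or.inr (by rw [mul_assoc]; exact mul_mem hx hy)
          · right
            have hyR := hKR hy
            have e : x * y * a = x * a * y := by rw [mul_assoc, ← hcm a ha y hyR, ← mul_assoc]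
            rw [e]; exact mul_mem hx hy
          · left
            have h1 := mul_mem hx hy
            have hyR : y ∈ R := by
              have := R.mul_mem (hKR hy) (R.inv_mem ha)
              rwa [mul_inv_cancel_right] at this
            have e : x * a * (y * a) = x * y := by
              rw [← hcm a ha y hyR]
              calc x * a * (a * y) = x * (a * a) * y := by group
                _ = x * y := by rw [hmul a ha, mul_one]
            rwa [e] at h1
        inv_mem' := by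
          rintro x (hx | hx)
          · exact Or.inl (inv_mem hx)
          · right
            have hxR : x ∈ R := by
              have := R.mul_mem (hKR hx) (R.inv_mem ha)
              rwa [mul_inv_cancel_right] at this
            have e : x⁻¹ = x := inv_eq_of_mul_eq_one_left (hmul x hxR)
            rw [e]; exact hx }
    have hKK' : K ≤ K' := fun x hx => Or.inl hx
    have haK' : a ∈ K' := Or.inr (by rw [hmul a ha]; exact one_mem _)
    have hK'R : K' ≤ R := by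
      rintro x (hx | hx)
      · exact hKR hx
      · have := R.mul_mem (hKR hx) (R.inv_mem ha)
        rwa [mul_inv_cancel_right] at this
    have hdK' : d ∈ K' := by
      by_contra hcon
      have h1 := hmax K' ⟨hK'R, hcon⟩
      have h2 := eq_of_le_of_card_ge hKK' h1
      exact haK (h2 ▸ haK')
    exact hdK'.resolve_left hdK
  refine ⟨K, fun h => hdK (h hd), fun a ha b hb => ?_⟩
  constructor
  · intro hab
    constructor
    · intro haK
      have := mul_mem (inv_mem haK) hab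
      rwa [inv_mul_cancel_left] at this
    · intro hbK
      have := mul_mem hab (inv_mem hbK)
      rwa [mul_inv_cancel_right] at this
  · intro h
    by_cases haK : a ∈ K
    · exact mul_mem haK (h.1 haK)
    · have hbK : b ∉ K := fun hb' => haK (h.2 hb')
      have h1 := mul_mem (key a ha haK) (key b hb hbK)
      have e : d * a * (d * b) = a * b := by
        rw [hcm d hd a ha]
        calc a * d * (d * b) = a * (d * d) * b := by group
          _ = a * b := by rw [hmul d hd, mul_one]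
      rwa [e] at h1

/-- a pairing `A × B → R`, onto for every `a ∈ A - F` -/
theorem card_le [Finite G] {A B F C R : Subgroup G} (hFA : F ≤ A) (hCB : C ≤ B)
    (hsq : ∀ r ∈ R, r ^ 2 = 1) (hRc : R ≤ centralizer (R : Set G)) (hne : R ≠ ⊥)
    (hc : ∀ a ∈ A, ∀ b ∈ B, c a b ∈ R)
    (hl : ∀ a ∈ A, ∀ a' ∈ A, ∀ b ∈ B, c (a * a') b = c a b * c a' b)
    (hr : ∀ a ∈ A, ∀ b ∈ B, ∀ b' ∈ B, c a (b * b') = c a b * c a b')
    (hs : ∀ a ∈ A, a ∉ F → ∀ r ∈ R, ∃ b ∈ B, c a b = r)
    (hC : ∀ a ∈ A, ∀ b ∈ C, c a b = 1) : F.relIndex A ≤ C.relIndex B := by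
  classical
  obtain ⟨K, hRK, hK⟩ := exists_two hsq hRc hne
  let s : A → B → ℤˣ := fun a b => if c (a : G) (b : G) ∈ K then 1 else -1
  have hsg : ∀ x ∈ R, ∀ y ∈ R, (if x * y ∈ K then (1 : ℤˣ) else -1) =
      (if x ∈ K then 1 else -1) * (if y ∈ K then 1 else -1) := by
    intro x hx y hy
    have h1 := hK x hx y hy
    by_cases h2 : x ∈ K <;> by_cases h3 : y ∈ K <;> simp [h1, h2, h3]
  have h1 := pairing_units s (fun a a' b => by
      change (if c ((a : G) * (a' : G)) (b : G) ∈ K then (1 : ℤˣ) else -1) = _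
      rw [hl a a.2 a' a'.2 b b.2]
      exact hsg _ (hc a a.2 b b.2) _ (hc a' a'.2 b b.2))
    (fun a b b' => by
      change (if c (a : G) ((b : G) * (b' : G)) ∈ K then (1 : ℤˣ) else -1) = _
      rw [hr a a.2 b b.2 b' b'.2]
      exact hsg _ (hc a a.2 b b.2) _ (hc a a.2 b' b'.2))
  have h2 : Nat.card {a : A // ∀ b, s a b = 1} ≤ Nat.card F := by
    refine Nat.card_le_card_of_injective (fun a => (⟨(a.1 : G), ?_⟩ : F)) ?_
    · by_contra hcon
      obtain ⟨r, hr1, hr2⟩ := SetLike.not_le_iff_exists.1 hRK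
      obtain ⟨b, hb, hbr⟩ := hs a.1 a.1.2 hcon r hr1
      have h3 := a.2 ⟨b, hb⟩
      change (if c (a.1 : G) b ∈ K then (1 : ℤˣ) else -1) = 1 at h3
      rw [hbr, if_neg hr2] at h3
      exact absurd h3 (by decide)
    · intro a b hab
      exact Subtype.ext (Subtype.ext (congrArg (fun x : F => (x : G)) hab))
  have h3 : Nat.card C ≤ Nat.card {b : B // ∀ a, s a b = 1} := by
    refine Nat.card_le_card_of_injective (fun x => ⟨⟨(x : G), hCB x.2⟩, fun a => ?_⟩) ?_
    · change (if c (a : G) (x : G) ∈ K then (1 : ℤˣ) else -1) = 1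
      rw [hC a a.2 x x.2, if_pos (one_mem _)]
    · intro a b hab
      have := congrArg (fun x : {b : B // ∀ a, s a b = 1} => ((x : B) : G)) hab
      exact Subtype.ext this
  have h4 : Nat.card A * Nat.card C ≤ Nat.card F * Nat.card B :=
    calc Nat.card A * Nat.card C ≤ Nat.card A * Nat.card {b : B // ∀ a, s a b = 1} :=
          Nat.mul_le_mul_left _ h3
      _ = Nat.card {a : A // ∀ b, s a b = 1} * Nat.card B := h1.symm
      _ ≤ Nat.card F * Nat.card B := Nat.mul_le_mul_right _ h2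
  have e1 : Nat.card F * F.relIndex A = Nat.card A := by
    have := relIndex_mul_relIndex (⊥ : Subgroup G) F A bot_le hFA
    rwa [relIndex_bot_left, relIndex_bot_left] at this
  have e2 : Nat.card C * C.relIndex B = Nat.card B := by
    have := relIndex_mul_relIndex (⊥ : Subgroup G) C B bot_le hCB
    rwa [relIndex_bot_left, relIndex_bot_left] at this
  rw [← e1, ← e2] at h4
  have hp : 0 < Nat.card F * Nat.card C := Nat.mul_pos Nat.card_pos Nat.card_pos
  refine Nat.le_of_mul_le_mul_left ?_ hp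
  calc Nat.card F * Nat.card C * F.relIndex A = Nat.card F * F.relIndex A * Nat.card C := by ring
    _ ≤ Nat.card F * (Nat.card C * C.relIndex B) := h4
    _ = Nat.card F * Nat.card C * C.relIndex B := by ring

/-! ### the lines -/

section lines

variable {V F T X L Q0 V' F₁ : Subgroup G} (p : Pan V F T X L Q0) (hy : Flat.Hyp V' F₁)
include p hy

omit hy in
/-- `V₁ ∩ F₁ = F` for a line `V₁` moved by `W` -/
theorem inf_F₁ (hWQ : WW V' F₁ ≤ Q0) (hVF : V ≤ F₁) {x : G} (hx : x ∈ X)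
    (hm : ¬ WW V' F₁ ≤ normalizer ((cj x V : Subgroup G) : Set G)) : cj x V ⊓ F₁ = F := by
  apply le_antisymm
  · rintro v ⟨hv, hvF⟩
    obtain ⟨w, hw, hwn⟩ := SetLike.not_le_iff_exists.1 hm
    refine p.cent_le hx (p.Q0_X (hWQ hw)) hwn hv ?_
    exact mem_centralizer_iff.1 (Flat.Hyp.W_le_X hw) v hvF
  · exact le_inf (p.F_le_line hx) (p.F_le.trans hVF)

variable [Finite G]

/-- an unmoved line is centralised by `W` -/
theorem cent_unmoved
    (hoff : ∀ E0 : Subgroup G, F₁ ≤ E0 → E0 ≤ EE V' F₁ →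
      F₁.relIndex E0 ≤ (centralizer (E0 : Set G)).relIndex (WW V' F₁))
    (hWQ : WW V' F₁ ≤ Q0) (hUE : cl V X ≤ EE V' F₁) {x : G} (hx : x ∈ X)
    (hm : WW V' F₁ ≤ normalizer ((cj x V : Subgroup G) : Set G)) :
    WW V' F₁ ≤ centralizer ((cj x V : Subgroup G) : Set G) := by
  by_contra hcon
  have hE : cj x V ≤ EE V' F₁ := (cj_le_cl hx).trans hUE
  have h1 := hy.off_of_le hoff hE
  obtain ⟨h2, h3⟩ := hy.elem_W (hE.trans inf_le_left)
  have h4 := (p.nff.cj x) (WW V' F₁) (p.isPGroup_T.to_le (hWQ.trans p.Q0_le)) hm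
    (fun a ha => by rw [pow_two]; exact h3 a ha) (fun a ha b hb => h2 a ha b hb) hcon
  omega

/-- `N_W(V₁)` centralises a line `V₁` moved by `W` -/
theorem cent_moved (hWQ : WW V' F₁ ≤ Q0) (hVF : V ≤ F₁) (hUE : cl V X ≤ EE V' F₁) (ρ : Subgroup G)
    (key : ∀ r ∈ cl V X, r ∉ F₁ → ∀ d, d ∈ ρ ↔ ∃ s ∈ WW V' F₁, c r s = d) {x : G} (hx : x ∈ X)
    (hm : ¬ WW V' F₁ ≤ normalizer ((cj x V : Subgroup G) : Set G)) :
    WW V' F₁ ⊓ normalizer ((cj x V : Subgroup G) : Set G) ≤ centralizer ((cj x V : Subgroup G) : Set G) := by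
  by_contra hcon
  set V₁ := cj x V with hV₁
  set W₁ := WW V' F₁ ⊓ normalizer (V₁ : Set G) with hW₁
  have hVU : V₁ ≤ cl V X := cj_le_cl hx
  have hVE : V₁ ≤ EE V' F₁ := hVU.trans hUE
  have hVV : V₁ ≤ V' := hVE.trans inf_le_left
  have hinf : V₁ ⊓ F₁ = F := inf_F₁ p hWQ hVF hx hm
  have hFF : F ≤ F₁ := p.F_le.trans hVF
  have hF₁V : F ≤ V₁ := p.F_le_line hx
  -- `[V₁, W₁] ≤ F`
  have hcF : ∀ r ∈ V₁, ∀ s ∈ W₁, c r s ∈ F := by
    intro r hr s hs
    rw [← hinf]
    refine ⟨?_, hy.comm_EW (hVE hr) hs.1⟩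
    have h1 := (mem_normalizer_iff.1 hs.2 r⁻¹).1 (inv_mem hr)
    have e : c r s = r * (s * r⁻¹ * s⁻¹) := by rw [c_def]; group
    rw [e]
    exact V₁.mul_mem hr h1
  -- `[r, s] ∈ F ⟹ s ∈ W₁`
  have hW : ∀ r ∈ V₁, r ∉ F₁ → ∀ s ∈ WW V' F₁, c r s ∈ F → s ∈ W₁ := by
    intro r hr hrF s hs hcs
    refine ⟨hs, ?_⟩
    by_contra hn
    have hsX : s ∈ X := p.Q0_X (hWQ hs)
    have h1 : cj (s * x) V ≠ cj x V := by
      intro h0
      rw [← cj_cj] at h0
      exact hn (mem_normalizer_iff_cj.2 h0)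
    have h2 : s * r * s⁻¹ ∈ cj (s * x) V ⊓ cj x V := by
      refine ⟨?_, ?_⟩
      · change s * r * s⁻¹ ∈ cj (s * x) V
        rw [← cj_cj]
        exact mem_cj_self hr
      · have e : s * r * s⁻¹ = (c r s)⁻¹ * r := by rw [c_def]; group
        rw [e]
        exact V₁.mul_mem (inv_mem (hF₁V hcs)) hr
    rw [p.line' (mul_mem hsX hx) hx h1] at h2
    have h3 := p.cj_F (inv_mem hsX)
    have h4 : r ∈ F := by
      rw [← h3, mem_cj, inv_inv]
      exact h2
    exact hrF (hFF h4)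
  -- the group `ρ₀`
  have hk : ∀ r ∈ V₁, r ∉ F₁ → ∀ d ∈ ρ ⊓ F, ∃ s ∈ W₁, c r s = d := by
    intro r hr hrF d hd
    obtain ⟨s, hs, hsd⟩ := (key r (hVU hr) hrF d).1 hd.1
    exact ⟨s, hW r hr hrF s hs (by rw [hsd]; exact hd.2), hsd⟩
  have hk' : ∀ r ∈ V₁, ∀ s ∈ W₁, c r s ∈ ρ ⊓ F := by
    intro r hr s hs
    by_cases hrF : r ∈ F₁
    · rw [Flat.Hyp.c_F hrF hs.1]; exact one_mem _
    · exact ⟨(key r (hVU hr) hrF _).2 ⟨s, hs.1, rfl⟩, hcF r hr s hs⟩
  have hne : ρ ⊓ F ≠ ⊥ := by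
    intro h0
    apply hcon
    intro s hs
    rw [mem_centralizer_iff]
    intro r hr
    have h1 := hk' r hr s hs
    rw [h0, mem_bot, c_def, mul_inv_eq_one, mul_inv_eq_iff_eq_mul] at h1
    exact h1
  have h5 := card_le (A := V₁) (B := W₁) (F := F) (C := W₁ ⊓ centralizer (V₁ : Set G)) (R := ρ ⊓ F) hF₁V
    inf_le_left (fun r hr => p.sq r (p.F_le hr.2))
    (fun a ha => by
      have h1 := p.comm (p.F_le ha.2)
      exact centralizer_le (fun b hb => p.F_le hb.2) h1) hne hk'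
    (fun a ha a' ha' b hb => hy.c_mul_left (hVV ha) (hVV ha') hb.1)
    (fun a ha b hb b' hb' => by
      rw [hy.c_mul_right (hVV ha) hb.1 hb'.1, Flat.Hyp.c_F (hFF (hcF a ha b' hb')) hb.1, mul_one])
    (fun a ha haF => hk a ha fun h => haF (by rw [← hinf]; exact ⟨ha, h⟩))
    (fun a ha b hb => by
      rw [c_def, mem_centralizer_iff.1 hb.2 a ha, mul_inv_cancel_right, mul_inv_cancel])
  obtain ⟨h2, h3⟩ := hy.elem_W hVV
  have h4 := (p.nff.cj x) W₁ (p.isPGroup_T.to_le (inf_le_left.trans (hWQ.trans p.Q0_le))) inf_le_right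
    (fun a ha => by rw [pow_two]; exact h3 a ha.1) (fun a ha b hb => h2 a ha.1 b hb.1) hcon
  have h6 : (centralizer (W₁ : Set G)).relIndex V₁ ≤ F.relIndex V₁ := by
    refine relIndex_le_of_le_left ?_ index_ne_zero_of_finite
    refine cent_symm ?_
    exact (inf_le_left.trans Flat.Hyp.W_le_X).trans (centralizer_le hFF)
  rw [inf_relIndex_left] at h5
  have h7 : (centralizer (V₁ : Set G)).relIndex W₁ < (centralizer (W₁ : Set G)).relIndex V₁ := h4
  exact absurd (h7.trans_le (h6.trans h5)) (lt_irrefl _)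

/-- **(7)** -/
theorem end_aux (hX : NoOv X) (h2 : Two V X)
    (hoff : ∀ E0 : Subgroup G, F₁ ≤ E0 → E0 ≤ EE V' F₁ →
      F₁.relIndex E0 ≤ (centralizer (E0 : Set G)).relIndex (WW V' F₁))
    (hWQ : WW V' F₁ ≤ Q0) (hWX : ¬ WW V' F₁ ≤ o2 X) (hVF : V ≤ F₁) (hUE : cl V X ≤ EE V' F₁)
    (ρ : Subgroup G) (key : ∀ r ∈ cl V X, r ∉ F₁ → ∀ d, d ∈ ρ ↔ ∃ s ∈ WW V' F₁, c r s = d) : False := by
  set W := WW V' F₁ with hW
  have hWX' : W ≤ X := hWQ.trans p.Q0_X
  have hWP : IsPGroup 2 W := p.isPGroup_T.to_le (hWQ.trans p.Q0_le)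
  -- `W ∩ Q` centralises `U`
  have h1 : W ⊓ o2 X ≤ centralizer (cl V X : Set G) := by
    refine cent_symm (cl_le fun x hx => cent_symm ?_)
    by_cases hm : W ≤ normalizer ((cj x V : Subgroup G) : Set G)
    · exact inf_le_left.trans (cent_unmoved p hy hoff hWQ hUE hx hm)
    · refine le_trans (inf_le_inf_left _ ?_) (cent_moved p hy hWQ hVF hUE ρ key hx hm)
      exact p.o2_norm_line hx
  have h3 : (centralizer (cl V X : Set G)).relIndex W ≤ (o2 X).relIndex W := by
    rw [← inf_relIndex_left W (o2 X)]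
    exact relIndex_le_of_le_left h1 index_ne_zero_of_finite
  have h4 := hy.off_of_le hoff hUE
  -- `W ∩ C(U) ≤ Q`
  have h5 : W ⊓ centralizer (cl V X : Set G) ≤ o2 X :=
    p.le_o2_of_cent_U (hWP.to_le inf_le_left) (inf_le_left.trans hWX') inf_le_right
  obtain ⟨h6, h7⟩ := hy.elem_W (hUE.trans inf_le_left)
  obtain ⟨N, hN, hXN, hE, hE'⟩ := h2
  have h8 := hX.two hN p.U_le_X p.U_sq p.U_comm hXN (le_normalizer_cl V X) hE hE' hWX'
    (fun a ha => by
      rw [pow_two]
      exact h5 ⟨mul_mem ha ha, h7 a ha⟩)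
    (fun a ha b hb => h5 ⟨W.mul_mem (W.mul_mem (W.mul_mem ha hb) (W.inv_mem ha)) (W.inv_mem hb), h6 a ha b hb⟩)
  have h9 : (o2 X).relIndex W ≠ 0 := index_ne_zero_of_finite
  have h10 : (o2 X).relIndex W ≠ 1 := fun h0 => hWX (relIndex_eq_one.1 h0)
  have h11 : (o2 X).relIndex W * (o2 X).relIndex W ≤ (o2 X).relIndex W * 1 := by
    rw [mul_one]
    exact h8.trans (h4.trans h3)
  have h12 := Nat.le_of_mul_le_mul_left h11 (Nat.pos_of_ne_zero h9)
  omega

end lines

/-- **(7)**: the end of THEOREM BETA2 -/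
theorem end_ [Finite G] {V F T X L Q0 V' F₁ : Subgroup G} (p : Pan V F T X L Q0) (hX : NoOv X) (h2 : Two V X)
    (hy : Flat.Hyp V' F₁)
    (hoff : ∀ E0 : Subgroup G, F₁ ≤ E0 → E0 ≤ EE V' F₁ →
      F₁.relIndex E0 ≤ (centralizer (E0 : Set G)).relIndex (WW V' F₁))
    (hWQ : WW V' F₁ ≤ Q0) (hWX : ¬ WW V' F₁ ≤ o2 X) (hVF : V ≤ F₁) (hUE : cl V X ≤ EE V' F₁)
    (ρ : Subgroup G) (key : ∀ r ∈ cl V X, r ∉ F₁ → ∀ d, d ∈ ρ ↔ ∃ s ∈ WW V' F₁, c r s = d) : False :=
  end_aux p hy hX h2 hoff hWQ hWX hVF hUE ρ key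

end Cfsg.Agent.Omega.NO3b.BetaTwo
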