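import Cfsg.Agent.Omega.NO3b.BetaTwo.Def
import Cfsg.Agent.Omega.NOne.Flat.Nine

/-!
# THEOREM BETA2 (bb OMEGA #20914, helper235), (6)

`Flat.Hyp V F` (the text's `V'`, `F₁`), `W = W_F`, `E = V ∩ O₂(C_G(F))`, `N = C_W(E)`, `B ≤ W`, `C_G(F) ≤ N(B)`,
`c w s = [w, s]`.  `W` acts on `V` as an abelian group: `[[w, b], s] = [[w, s], b]`.

* `Key.comm_left`, `Key.comm_right` : `{[r, s] : s ∈ W} = {[e, b] : e ∈ E}` for `r ∈ [w, b] F`, `w ∈ V - E`;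
* `Key.meet` : `|V ∩ B : V ∩ B ∩ F| < |V : E|²`: for `b, b' ∈ B - N` there are `w, w' ∈ V - E` with
  `[w, b] F = [w', b'] F`;
* `Key.key`, `Bt.key` : **(6)** `{[r, s] : s ∈ W}` is the same group for all `r ∈ V ∩ B - F`.

Author: helper111.
-/

set_option autoImplicit false

namespace Cfsg.Agent.Omega.NO3b.BetaTwo

open Subgroup Cfsg
open Cfsg.Agent.Omega.NOne.Flat (Hyp EE WW NN)
open Cfsg.Agent.Omega.NOne.NearFF (c c_def)

universe u

variable {G : Type u} [Group G] [Finite G]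

namespace Key

variable {V F B : Subgroup G} (h : Hyp V F)
include h

/-- `[r, s] = [[w, s], b]` for `r ∈ [w, b] F` -/
theorem comm_left {w b r s : G} (hw : w ∈ V) (hb : b ∈ WW V F) (hs : s ∈ WW V F) (hr : r ∈ V)
    (hrb : (c w b)⁻¹ * r ∈ F) : c r s = c (c w s) b := by
  rw [← h.c_congr_left (h.c_memV hw hb) hr hs hrb, h.beta_comm hw hb hs]

/-- for `e ∈ E` there is `s ∈ W` with `[r, s] = [e, b]` -/
theorem comm_right {w b r e : G} (hw : w ∈ V) (hwE : w ∉ EE V F) (hb : b ∈ WW V F) (hr : r ∈ V)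
    (hrb : (c w b)⁻¹ * r ∈ F) (he : e ∈ EE V F) : ∃ s ∈ WW V F, c r s = c e b := by
  obtain ⟨s, hs, hse⟩ := h.surj hw hwE he
  refine ⟨s, hs, ?_⟩
  rw [comm_left h hw hb hs hr hrb]
  refine h.c_congr_left (h.c_memV hw hs) he.1 hb ?_
  rw [h.inv (h.c_memV hw hs)]
  rw [h.inv he.1] at hse
  exact hse

/-- `[w w', b] = [w, b] [w', b]`, for `w⁻¹ w'` -/
theorem c_inv_mul {w w' b : G} (hw : w ∈ V) (hw' : w' ∈ V) (hb : b ∈ WW V F) :
    c (w⁻¹ * w') b = (c w b)⁻¹ * c w' b := by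
  rw [h.c_mul_left (inv_mem hw) hw' hb, h.c_inv_left hw hb]

/-- for `b, b' ∈ B - N` there are `w, w' ∈ V - E` with `[w, b] F = [w', b'] F`. -/
theorem meet (hW : B ≤ WW V F) (hX : centralizer (F : Set G) ≤ normalizer (B : Set G))
    (hc : F.relIndex (V ⊓ B) < (EE V F).relIndex V * (EE V F).relIndex V) {b b' : G} (hb : b ∈ B)
    (hb' : b' ∈ B) (hbN : b ∉ NN V F) (hbN' : b' ∉ NN V F) :
    ∃ w ∈ V, ∃ w' ∈ V, w ∉ EE V F ∧ w' ∉ EE V F ∧ (c w b)⁻¹ * c w' b' ∈ F := by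
  have hcB : ∀ w ∈ V, ∀ s ∈ B, c w s ∈ V ⊓ B := fun w hw s hs => by
    refine mem_inf.2 ⟨h.c_memV hw (hW hs), ?_⟩
    have h1 := (mem_normalizer_iff.1 (hX (h.V_le_X hw)) s).1 hs
    rw [c_def]
    exact mul_mem h1 (inv_mem hs)
  -- a non-injective map
  let f : (V ⧸ (EE V F).subgroupOf V) × (V ⧸ (EE V F).subgroupOf V) →
      ((V ⊓ B : Subgroup G) ⧸ F.subgroupOf (V ⊓ B)) := fun x =>
    QuotientGroup.mk ⟨c (x.1.out : G) b * c (x.2.out : G) b',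
      mul_mem (hcB _ x.1.out.2 b hb) (hcB _ x.2.out.2 b' hb')⟩
  have hf : ¬ Function.Injective f := by
    intro hinj
    have h1 := Nat.card_le_card_of_injective f hinj
    rw [Nat.card_prod] at h1
    exact absurd h1 (not_le.2 hc)
  rw [Function.Injective] at hf
  push Not at hf
  obtain ⟨x, y, hxy, hne⟩ := hf
  have h1 : ((⟨c (x.1.out : G) b * c (x.2.out : G) b', _⟩ : (V ⊓ B : Subgroup G))⁻¹ *
      ⟨c (y.1.out : G) b * c (y.2.out : G) b', mul_mem (hcB _ y.1.out.2 b hb) (hcB _ y.2.out.2 b' hb')⟩) ∈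
        F.subgroupOf (V ⊓ B) := QuotientGroup.eq.1 hxy
  rw [mem_subgroupOf] at h1
  simp only [coe_mul, coe_inv] at h1
  set w := (x.1.out : G)⁻¹ * (y.1.out : G) with hwd
  set w' := (x.2.out : G)⁻¹ * (y.2.out : G) with hwd'
  have hw : w ∈ V := mul_mem (inv_mem x.1.out.2) y.1.out.2
  have hw' : w' ∈ V := mul_mem (inv_mem x.2.out.2) y.2.out.2
  have e1 : c w b * c w' b' ∈ F := by
    rw [hwd, hwd', c_inv_mul h x.1.out.2 y.1.out.2 (hW hb), c_inv_mul h x.2.out.2 y.2.out.2 (hW hb')]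
    have k1 := h.c_memV x.1.out.2 (hW hb)
    have k2 := h.c_memV y.1.out.2 (hW hb)
    have k3 := h.c_memV x.2.out.2 (hW hb')
    have k4 := h.c_memV y.2.out.2 (hW hb')
    have e : (c (x.1.out : G) b)⁻¹ * c (y.1.out : G) b * ((c (x.2.out : G) b')⁻¹ * c (y.2.out : G) b') =
        (c (x.1.out : G) b * c (x.2.out : G) b')⁻¹ * (c (y.1.out : G) b * c (y.2.out : G) b') := by
      rw [mul_inv_rev, h.V_comm (inv_mem k3) (inv_mem k1)]
      rw [mul_assoc, mul_assoc, ← mul_assoc (c (y.1.out : G) b), h.V_comm k2 (inv_mem k3), mul_assoc]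
    rw [e]
    exact h1
  have hE1 : w ∈ EE V F → w' ∈ EE V F := fun hwE => by
    refine h.mem_E_of_c hw' (hW hb') hbN' ?_
    have k1 : c w b ∈ F := h.comm_EW hwE (hW hb)
    have := mul_mem (inv_mem k1) e1
    rwa [inv_mul_cancel_left] at this
  have hE2 : w' ∈ EE V F → w ∈ EE V F := fun hwE => by
    refine h.mem_E_of_c hw (hW hb) hbN ?_
    have k1 : c w' b' ∈ F := h.comm_EW hwE (hW hb')
    have := mul_mem e1 (inv_mem k1)
    rwa [mul_inv_cancel_right] at this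
  have hnE : w ∉ EE V F := by
    intro hwE
    apply hne
    have q1 : x.1 = y.1 := by
      rw [← QuotientGroup.out_eq' x.1, ← QuotientGroup.out_eq' y.1]
      exact QuotientGroup.eq.2 (mem_subgroupOf.2 hwE)
    have q2 : x.2 = y.2 := by
      rw [← QuotientGroup.out_eq' x.2, ← QuotientGroup.out_eq' y.2]
      exact QuotientGroup.eq.2 (mem_subgroupOf.2 (hE1 hwE))
    exact Prod.ext q1 q2
  refine ⟨w, hw, w', hw', hnE, fun h2 => hnE (hE2 h2), ?_⟩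
  rw [h.inv (h.c_memV hw (hW hb))]
  exact e1

/-- `{[e, b] : e ∈ E}` does not depend on `b ∈ B - N`. -/
theorem same (hW : B ≤ WW V F) (hX : centralizer (F : Set G) ≤ normalizer (B : Set G))
    (hc : F.relIndex (V ⊓ B) < (EE V F).relIndex V * (EE V F).relIndex V) {b b' : G} (hb : b ∈ B)
    (hb' : b' ∈ B) (hbN : b ∉ NN V F) (hbN' : b' ∉ NN V F) {e : G} (he : e ∈ EE V F) :
    ∃ e' ∈ EE V F, c e' b' = c e b := by
  obtain ⟨w, hw, w', hw', hwE, hwE', h1⟩ := meet h hW hX hc hb hb' hbN hbN'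
  have k1 := h.c_memV hw (hW hb)
  have k2 := h.c_memV hw' (hW hb')
  -- `r = [w', b']`
  obtain ⟨s, hs, hse⟩ := comm_right h hw hwE (hW hb) k2 h1 he
  refine ⟨c w' s, h.c_memE hw' hs, ?_⟩
  rw [← hse]
  refine (comm_left h hw' (hW hb') hs k2 ?_).symm
  rw [inv_mul_cancel]
  exact one_mem _

/-- **(6)** -/
theorem key (hW : B ≤ WW V F) (hX : centralizer (F : Set G) ≤ normalizer (B : Set G))
    (h3 : ∀ w ∈ V, w ∉ EE V F → ∀ r ∈ V ⊓ B, ∃ b ∈ B, c w b * r⁻¹ ∈ F) (hBN : ¬ B ≤ NN V F)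
    (hc : F.relIndex (V ⊓ B) < (EE V F).relIndex V * (EE V F).relIndex V) :
    ∃ ρ : Subgroup G, ∀ r ∈ V ⊓ B, r ∉ F → ∀ d, d ∈ ρ ↔ ∃ s ∈ WW V F, c r s = d := by
  obtain ⟨b₀, hb₀, hbN₀⟩ := SetLike.not_le_iff_exists.1 hBN
  let ρ : Subgroup G :=
    { carrier := {d | ∃ e ∈ EE V F, c e b₀ = d}
      one_mem' := ⟨1, one_mem _, by rw [c_def]; group⟩
      mul_mem' := by
        rintro _ _ ⟨e, he, rfl⟩ ⟨e', he', rfl⟩
        exact ⟨e * e', mul_mem he he', h.c_mul_left he.1 he'.1 (hW hb₀)⟩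
      inv_mem' := by
        rintro _ ⟨e, he, rfl⟩
        exact ⟨e⁻¹, inv_mem he, h.c_inv_left he.1 (hW hb₀)⟩ }
  refine ⟨ρ, fun r hr hrF d => ?_⟩
  obtain ⟨w, hw, hwE⟩ := h.exists_not_mem
  obtain ⟨b, hb, hrb⟩ := h3 w hw hwE r hr
  have hrV : r ∈ V := hr.1
  have hcV := h.c_memV hw (hW hb)
  have hbN : b ∉ NN V F := by
    intro h1
    apply hrF
    have h2 := mul_mem (inv_mem (h.c_mem_F hw h1)) hrb
    rw [inv_mul_cancel_left] at h2
    exact (inv_mem_iff).1 h2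
  have hrb' : (c w b)⁻¹ * r ∈ F := by
    rw [h.inv hcV]
    rw [h.inv hrV] at hrb
    exact hrb
  constructor
  · rintro ⟨e, he, rfl⟩
    obtain ⟨e', he', h4⟩ := same h hW hX hc hb₀ hb hbN₀ hbN he
    obtain ⟨s, hs, h5⟩ := comm_right h hw hwE (hW hb) hrV hrb' he'
    exact ⟨s, hs, h5.trans h4⟩
  · rintro ⟨s, hs, rfl⟩
    obtain ⟨e', he', h4⟩ := same h hW hX hc hb hb₀ hbN hbN₀ (h.c_memE hw hs)
    exact ⟨e', he', by rw [h4, comm_left h hw (hW hb) hs hrV hrb']⟩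

end Key

/-- **(6)** -/
theorem Bt.key {V F T X L Q0 V' F₁ : Subgroup G} (t : Bt V F T X L Q0 V' F₁)
    (h3 : ∀ w ∈ V', w ∉ EE V' F₁ → ∀ r ∈ V' ⊓ BB V X F₁, ∃ b ∈ BB V X F₁, c w b * r⁻¹ ∈ F₁)
    (h3' : (NN V' F₁).relIndex (BB V X F₁) = F₁.relIndex (V' ⊓ BB V X F₁))
    (hBN : ¬ BB V X F₁ ≤ NN V' F₁)
    (hc : 2 * (NN V' F₁).relIndex (BB V X F₁) ≤ (EE V' F₁).relIndex V' * (EE V' F₁).relIndex V') :
    ∃ ρ : Subgroup G, ∀ r ∈ V' ⊓ BB V X F₁, r ∉ F₁ → ∀ d, d ∈ ρ ↔ ∃ s ∈ WW V' F₁, c r s = d := by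
  have h0 : 0 < F₁.relIndex (V' ⊓ BB V X F₁) := Nat.pos_of_ne_zero index_ne_zero_of_finite
  rw [h3'] at hc
  exact Key.key t.hy t.B_le_W Bt.X'_norm_B h3 hBN (by omega)

end Cfsg.Agent.Omega.NO3b.BetaTwo
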