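import Cfsg.Agent.Omega.NO3b.K0.Mix.Main
import Cfsg.Agent.Omega.NOne.Flat.Off
import Cfsg.Agent.Omega.NOne.Flat.Eight

/-!
# THEOREM BETA2 (bb #20914), part 1: the frame, the gallery

`Pan V F T X L Q0` a panel with `NoOv X`, `SM V X`, `Two V X`; `Flat.Hyp V' F₁`, `W = WW V' F₁ ≤ Q0`, `W ≰ O₂(X)`,
`⟨V^X⟩ ≤ V'`, the lines are good (`Bt`).

* `comm_of_le` : THE MUTUAL PAIR (K0P);
* `Bt.le_E` (G1) : a line in `V'` which meets `F₁` is in `E = EE V' F₁`;
* `BB V X F₁ = ⟨U^y | y ∈ C_G(F₁)⟩`, `U = ⟨V^X⟩`; `Bt.B_comm`, `Bt.B_le_W` (1);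
* `Bt.exists_gal` (2) : the critical panel `X^h`.
-/

set_option autoImplicit false

namespace Cfsg.Agent.Omega.NO3b.BetaTwo

open Subgroup Cfsg Cfsg.Agent.ZN Cfsg.Agent.ZN.ChoiceBase
open Cfsg.Agent.ZN.ChoiceSit (Syl exists_syl syl_conj o2_le_syl)
open Cfsg.Agent.MinSimple.VModule (oddGen)
open Cfsg.Agent.Omega.NO3b.EZero
open Cfsg.Agent.Omega.NO3b.K0 (NoOv cj_of_le cj_self cj_bot')
open Cfsg.Agent.Omega.NO3b.K0.Mix (Pan SM Two Crit)
open Cfsg.Agent.Omega.NOne.Flat (EE WW NN Bad)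
open Cfsg.Agent.Omega.NOne.NearFF (c)

universe u

variable {G : Type u} [Group G]

/-- no over-offenders in `X` on `⟨V^X⟩` -/
def NoOver (V X : Subgroup G) : Prop :=
  ∀ A : Subgroup G, A ≤ X → (∀ a ∈ A, a ^ 2 ∈ centralizer (cl V X : Set G)) →
    (∀ a ∈ A, ∀ b ∈ A, a * b * a⁻¹ * b⁻¹ ∈ centralizer (cl V X : Set G)) →
      (centralizer (cl V X : Set G)).relIndex A ≤ (centralizer (A : Set G)).relIndex (cl V X)

/-- The frame. -/
structure Bt [Finite G] (V F T X L Q0 V' F₁ : Subgroup G) : Prop where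
  pan : Pan V F T X L Q0
  noov : NoOv X
  sm : SM V X
  two : Two V X
  hno : NoOver V X
  hy : NOne.Flat.Hyp V' F₁
  hoff : ∀ E0 : Subgroup G, F₁ ≤ E0 → E0 ≤ EE V' F₁ →
    F₁.relIndex E0 ≤ (centralizer (E0 : Set G)).relIndex (WW V' F₁)
  good : ∀ (g : G) (D : Subgroup G), D ≤ cj g V → D ≠ ⊥ → cj g V ≤ o2 (centralizer (D : Set G))
  WQ : WW V' F₁ ≤ Q0
  WX : ¬ WW V' F₁ ≤ o2 X
  UV : cl V X ≤ V'

/-- `B = ⟨U^y | y ∈ C_G(F₁)⟩` -/
def BB (V X F₁ : Subgroup G) : Subgroup G := cl (cl V X) (centralizer (F₁ : Set G))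

/-! ### (K0P) -/

section pair

variable [Finite G] {V F T X L Q0 : Subgroup G} (p : Pan V F T X L Q0) (hX : NoOv X) (hs : SM V X) (h2 : Two V X)
include p hX hs h2

theorem crit_false {g : G} (k : Crit V X X Q0 g) : False := by
  have h3 := k.two_mul_le p p hX h2 hs hs
  have h4 := k.inv.two_mul_le p p hX h2 hs hs
  have e1 : (o2 X).relIndex (cj g⁻¹ (cl V X)) = (cj g (o2 X)).relIndex (cl V X) := by
    rw [← relIndex_cj g, cj_cj_inv]
  have e2 : (cj g⁻¹ (o2 X)).relIndex (cl V X) = (o2 X).relIndex (cj g (cl V X)) := by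
    rw [← relIndex_cj g, cj_cj_inv]
  rw [e1, e2] at h4
  have h5 : 0 < (o2 X).relIndex (cj g (cl V X)) := Nat.pos_of_ne_zero index_ne_zero_of_finite
  omega

/-- **(K0P)** -/
theorem comm_of_le {a b : G} (h1 : cj a (cl V X) ≤ cj b Q0) (h3 : cj b (cl V X) ≤ cj a Q0) :
    cj a (cl V X) ≤ centralizer ((cj b (cl V X) : Subgroup G) : Set G) := by
  by_contra hcon
  refine crit_false p hX hs h2 (g := a⁻¹ * b) ⟨fun h0 => hcon ?_, ?_, ?_⟩
  · have h4 := cj_cent (g := a) h0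
    rwa [cj_cj, mul_inv_cancel_left] at h4
  · rw [← cj_cj, ← cj_le_iff]
    exact h1
  · rw [← cj_cj, cj_le_iff, inv_inv]
    exact h3

end pair

namespace Bt

variable [Finite G] {V F T X L Q0 V' F₁ : Subgroup G} (t : Bt V F T X L Q0 V' F₁)
include t

/-- `V ≤ F₁` -/
theorem V_le_F₁ : V ≤ F₁ := by
  rw [← t.hy.cent_VW]
  exact le_inf ((le_cl V X).trans t.UV) (cent_symm (t.WQ.trans t.pan.Q0_cent))

omit [Finite G] t in
theorem conj_W' {y : G} (hy : y ∈ centralizer (F₁ : Set G)) : cj y (WW V' F₁) = WW V' F₁ :=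
  NOne.Flat.Hyp.conj_W hy

omit [Finite G] t in
theorem conjE_le_W' {y : G} (hy : y ∈ centralizer (F₁ : Set G)) : cj y (EE V' F₁) ≤ WW V' F₁ :=
  NOne.Flat.Hyp.conjE_le_W hy

theorem V'_le_X' : V' ≤ centralizer (F₁ : Set G) := t.hy.V_le_X

/-- **(G1)** a line in `V'` which meets `F₁` is in `E`. -/
theorem le_E {g : G} (h1 : cj g V ≤ V') (h2 : cj g V ⊓ F₁ ≠ ⊥) : cj g V ≤ EE V' F₁ := by
  refine le_inf h1 ?_
  set R := o2 (centralizer ((cj g V ⊓ F₁ : Subgroup G) : Set G)) with hR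
  have h3 : cj g V ≤ R := t.good g _ inf_le_left h2
  have h4 : centralizer (F₁ : Set G) ≤ centralizer ((cj g V ⊓ F₁ : Subgroup G) : Set G) :=
    centralizer_le inf_le_right
  have h5 : R ⊓ centralizer (F₁ : Set G) ≤ o2 (centralizer (F₁ : Set G)) := by
    refine ChoiceSit.le_o2 ((ChoiceSit.isPGroup_o2 _).to_le inf_le_left) inf_le_right ?_
    intro x hx
    rw [mem_normalizer_iff_cj, cj_inf, cj_eq_of_mem_normalizer (Subgroup.le_normalizer hx),
      cj_eq_of_mem_normalizer (ChoiceSit.le_normalizer_o2 _ (h4 hx))]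
  exact (le_inf h3 (h1.trans t.V'_le_X')).trans h5

/-- the lines on `X` are in `E` -/
theorem line_le_E {x : G} (hx : x ∈ X) : cj x V ≤ EE V' F₁ := by
  refine t.le_E ((cj_le_cl hx).trans t.UV) fun h0 => t.pan.F_ne_bot ?_
  rw [← le_bot_iff, ← h0]
  exact le_inf (t.pan.F_le_line hx) (t.pan.F_le.trans t.V_le_F₁)

theorem U_le_E : cl V X ≤ EE V' F₁ := cl_le fun _ hx => t.line_le_E hx

theorem U_le_W : cl V X ≤ WW V' F₁ := t.U_le_E.trans NOne.Flat.Hyp.E_le_W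

theorem cjU_le_W {y : G} (hy : y ∈ centralizer (F₁ : Set G)) : cj y (cl V X) ≤ WW V' F₁ :=
  (cj_mono y t.U_le_E).trans (conjE_le_W' hy)

/-- `W ≤ Q0^y` -/
theorem W_le_cj {y : G} (hy : y ∈ centralizer (F₁ : Set G)) : WW V' F₁ ≤ cj y Q0 := by
  have h1 := cj_mono y t.WQ
  rwa [conj_W' hy] at h1

/-! ### (1) -/

theorem cjU_comm {y z : G} (hy : y ∈ centralizer (F₁ : Set G)) (hz : z ∈ centralizer (F₁ : Set G)) :
    cj y (cl V X) ≤ centralizer ((cj z (cl V X) : Subgroup G) : Set G) :=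
  comm_of_le t.pan t.noov t.sm t.two ((t.cjU_le_W hy).trans (t.W_le_cj hz)) ((t.cjU_le_W hz).trans (t.W_le_cj hy))

theorem B_comm : BB V X F₁ ≤ centralizer (BB V X F₁ : Set G) :=
  cl_le fun _ hy => cent_symm (cl_le fun _ hz => t.cjU_comm hz hy)

theorem B_le_W : BB V X F₁ ≤ WW V' F₁ := cl_le fun _ hy => t.cjU_le_W hy

omit [Finite G] t in
theorem X'_norm_B : centralizer (F₁ : Set G) ≤ normalizer (BB V X F₁ : Set G) := le_normalizer_cl _ _

omit [Finite G] t in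
theorem U_le_B : cl V X ≤ BB V X F₁ := le_cl _ _

theorem cjU_sq (y : G) : ∀ u ∈ cj y (cl V X), u ^ 2 = 1 := by
  intro v hv
  have h1 := t.pan.U_sq _ (mem_cj.1 hv)
  have e : v ^ 2 = y * (y⁻¹ * v * y) ^ 2 * y⁻¹ := by rw [pow_two, pow_two]; group
  rw [e, h1]; group

theorem B_sq : ∀ b ∈ BB V X F₁, b ^ 2 = 1 :=
  sq_of_comm t.B_comm (fun i : centralizer (F₁ : Set G) => cj_le_cl i.2) le_rfl fun i => t.cjU_sq i

theorem isPGroup_B : IsPGroup 2 (BB V X F₁) := fun x => ⟨1, Subtype.ext (by simpa using t.B_sq x x.2)⟩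

/-! ### (2) -/

/-- the step of the gallery -/
theorem gal_step {h : G} (hB : BB V X F₁ ≤ cj h Q0) (hE : cj h (cl V X) ≤ EE V' F₁) {x : G} (hx : x ∈ X) :
    BB V X F₁ ≤ cj (h * x) Q0 := by
  have h1 : BB V X F₁ ≤ centralizer ((cj h (cl V X) : Subgroup G) : Set G) := by
    refine cl_le fun y hy => ?_
    exact comm_of_le t.pan t.noov t.sm t.two ((cj_le_cl hy).trans hB)
      ((hE.trans NOne.Flat.Hyp.E_le_W).trans (t.W_le_cj hy))
  have h2 : BB V X F₁ ≤ cj h (o2 X) := t.pan.le_cj_o2 t.isPGroup_B (hB.trans (cj_mono h t.pan.Q0_X)) h1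
  have h3 : cj h (o2 X) = cj (h * x) (o2 X) := by
    rw [← cj_cj, cj_of_le (ChoiceSit.le_normalizer_o2 X) hx]
  rw [h3] at h2
  refine t.pan.le_cj_Q0_of t.isPGroup_B (h2.trans (cj_mono _ (t.pan.o2_le_T.trans t.pan.T_le))) ?_
  refine h1.trans (centralizer_le ?_)
  rw [← cj_cj]
  exact cj_mono h (cj_le_cl hx)

/-- **(2)** the critical panel -/
theorem exists_gal {H : Subgroup G} (hH : H ≤ L ⊔ X) (hLH : L ≤ H) (hXH : X ≤ H)
    (hE : ¬ cl V H ≤ EE V' F₁) :
    ∃ h ∈ H, BB V X F₁ ≤ cj h Q0 ∧ ¬ cj h (cl V X) ≤ EE V' F₁ := by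
  by_contra hcon
  push Not at hcon
  apply hE
  have h0 : BB V X F₁ ≤ cj 1 Q0 := by
    rw [cj_one]; exact t.B_le_W.trans t.WQ
  have key : ∀ h ∈ H, BB V X F₁ ≤ cj h Q0 := by
    intro h hh
    have hh' := hH hh
    have hcl : L ⊔ X = closure ((L : Set G) ∪ (X : Set G)) := by
      rw [Subgroup.closure_union, closure_eq, closure_eq]
    rw [hcl] at hh'
    have h1 : h ∈ H ∧ BB V X F₁ ≤ cj h Q0 := by
      induction hh' using Subgroup.closure_induction_right with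
      | one => exact ⟨one_mem _, h0⟩
      | mul_right a _ b hb ih =>
        have ih' := ih (by
          rcases hb with hb | hb
          · have := mul_mem hh (inv_mem (hLH hb))
            rwa [mul_inv_cancel_right] at this
          · have := mul_mem hh (inv_mem (hXH hb))
            rwa [mul_inv_cancel_right] at this)
        refine ⟨hh, ?_⟩
        rcases hb with hb | hb
        · rw [← cj_cj, t.pan.cj_Q0 hb]
          exact ih'.2
        · exact t.gal_step ih'.2 (hcon a ih'.1 ih'.2) hb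
      | mul_inv_cancel a _ b hb ih =>
        have ih' := ih (by
          rcases hb with hb | hb
          · have := mul_mem hh (hLH hb)
            rwa [inv_mul_cancel_right] at this
          · have := mul_mem hh (hXH hb)
            rwa [inv_mul_cancel_right] at this)
        refine ⟨hh, ?_⟩
        rcases hb with hb | hb
        · rw [← cj_cj, t.pan.cj_Q0 (inv_mem hb)]
          exact ih'.2
        · exact t.gal_step ih'.2 (hcon a ih'.1 ih'.2) (inv_mem hb)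
    exact h1.2
  exact cl_le fun h hh => (cj_mono h (le_cl V X)).trans (hcon h hh (key h hh))

end Bt

end Cfsg.Agent.Omega.NO3b.BetaTwo
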