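import Cfsg.Agent.Omega.NOne.Flat.Eight
import Cfsg.Agent.Omega.NO3b.EZeroBase
import Cfsg.Agent.Omega.NO3b.BetaTwo.Def

/-!
# THEOREM BETA2 (#20914, helper235), (3) and (4)

The situation of THEOREM FLAT: `Hyp V F` (`V` of the text: `V'`, `F`: `F₁`), `E = EE V F`, `W = WW V F`, `N = NN V F`,
`X = C_G(F)`.  `B ≤ W` is normal in `X` (`BN V F B`), `A₀ = V ∩ B`.

* `BN.c_mem` : `[V, B] ≤ A₀`; `BN.A_le_E`;
* `BN.relIndex_eq` : **(3)** `|B : B ∩ N| = |A₀ : A₀ ∩ F|`; `BN.surj` : `[w, B] F = A₀ F` for every `w ∈ V - E`;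
* `BN.no_line` : **(4)** a subgroup `l ≤ V`, `l ≰ E`, `l ∩ F = 1`, which is not FF, is not normalised by `B`, if
  `B ≰ N` is elementary abelian.
-/

set_option autoImplicit false

namespace Cfsg.Agent.Omega.NO3b.BetaTwo

open Subgroup Cfsg
open Cfsg.Agent.ZN (o2)
open Cfsg.Agent.Omega.NOne.Flat Cfsg.Agent.Omega.NoFF.Basic Cfsg.Agent.Omega.NOne.Frame
open Cfsg.Agent.Omega.NOne.NearFF (c)
open Cfsg.Agent.Omega.NO3b.EZero (NotFF)
open scoped Pointwise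

universe u

variable {G : Type u} [Group G]

/-- `B ≤ W` is normal in `C_G(F)`. -/
structure BN (V F B : Subgroup G) : Prop where
  le : B ≤ WW V F
  norm : centralizer (F : Set G) ≤ normalizer (B : Set G)

namespace BN

variable {V F B : Subgroup G} (b : BN V F B) (h : Hyp V F)
include b h

/-- `[V, B] ≤ A₀` -/
theorem c_mem {w s : G} (hw : w ∈ V) (hs : s ∈ B) : c w s ∈ V ⊓ B := by
  refine ⟨h.c_memV hw (b.le hs), ?_⟩
  have h1 : w * s * w⁻¹ ∈ B := (mem_normalizer_iff.1 (b.norm (h.V_le_X hw)) s).1 hs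
  exact B.mul_mem h1 (B.inv_mem hs)

omit h in
theorem A_le_E : V ⊓ B ≤ EE V F := le_inf inf_le_left (inf_le_right.trans (b.le.trans Hyp.W_le_R))

variable [Finite G]

/-- `s ↦ [w, s]` -/
theorem cos {w : G} (hw : w ∈ V) (hwE : w ∉ EE V F) : Cos (c w) B (NN V F) (V ⊓ B) F where
  mem := fun _ hs => b.c_mem h hw hs
  iff := fun a ha s hs => by
    rw [h.c_iff hw (b.le ha) (b.le hs), h.c_mem_F_iff hw hwE (mul_mem (inv_mem (b.le ha)) (b.le hs))]

/-- `|A₀ : A₀ ∩ F| ≤ |B : B ∩ N|` -/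
theorem le_relIndex : F.relIndex (V ⊓ B) ≤ (NN V F).relIndex B := by
  obtain ⟨w, hw, hwE⟩ := h.exists_not_mem
  obtain ⟨x, hx, hb, -⟩ := h.exists_near hw hwE
  have h1 : MulAut.conj x • (V ⊓ B) ≤ B := by
    intro y hy
    rw [mem_conj] at hy
    have h2 := (mem_normalizer_iff.1 (b.norm hx) _).1 hy.2
    have e : x * (x⁻¹ * y * x) * x⁻¹ = y := by group
    rwa [e] at h2
  have h2 : NN V F ⊓ MulAut.conj x • (V ⊓ B) ≤ F :=
    le_trans (le_inf (inf_le_right.trans (conj_le_iff.2 b.A_le_E)) inf_le_left) (h.conjE_inf_NN hx hb).le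
  have h3 : F.relIndex (MulAut.conj x • (V ⊓ B)) = F.relIndex (V ⊓ B) := by
    have h4 : (MulAut.conj x • F).relIndex (MulAut.conj x • (V ⊓ B)) = F.relIndex (V ⊓ B) :=
      relIndex_map_map_of_injective F (V ⊓ B) (MulAut.conj x).injective
    rwa [conj_eq_of_cent hx] at h4
  calc F.relIndex (V ⊓ B) = F.relIndex (MulAut.conj x • (V ⊓ B)) := h3.symm
    _ ≤ (NN V F ⊓ MulAut.conj x • (V ⊓ B)).relIndex (MulAut.conj x • (V ⊓ B)) :=
      relIndex_le_of_le_left h2 index_ne_zero_of_finite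
    _ = (NN V F).relIndex (MulAut.conj x • (V ⊓ B)) := inf_relIndex_right _ _
    _ ≤ (NN V F).relIndex B := relIndex_le_of_le_right h1 index_ne_zero_of_finite

/-- **(3)** `|B : B ∩ N| = |A₀ : A₀ ∩ F|` -/
theorem relIndex_eq : (NN V F).relIndex B = F.relIndex (V ⊓ B) := by
  obtain ⟨w, hw, hwE⟩ := h.exists_not_mem
  exact le_antisymm (b.cos h hw hwE).le (b.le_relIndex h)

/-- **(3)** `[w, B] F = A₀ F` for `w ∈ V - E` -/
theorem surj {w : G} (hw : w ∈ V) (hwE : w ∉ EE V F) {r : G} (hr : r ∈ V ⊓ B) :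
    ∃ s ∈ B, (c w s)⁻¹ * r ∈ F := (b.cos h hw hwE).surj (b.le_relIndex h) hr

/-- `w ↦ [w, s]` for `s ∈ B - N`, on `l ≤ V` -/
theorem cos' {l : Subgroup G} (hl : l ≤ V) {s : G} (hs : s ∈ B) (hsN : s ∉ NN V F) :
    Cos (fun w => c w s) l (EE V F) (V ⊓ B) F where
  mem := fun _ hw => b.c_mem h (hl hw) hs
  iff := fun w hw w' hw' => by
    have h1 : (c w s)⁻¹ * c w' s = c (w⁻¹ * w') s := by
      rw [h.c_mul_left (inv_mem (hl hw)) (hl hw') (b.le hs), h.inv (hl hw), h.inv (h.c_memV (hl hw) (b.le hs))]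
    rw [h1]
    have hm : w⁻¹ * w' ∈ V := hl (mul_mem (inv_mem hw) hw')
    constructor
    · intro h2
      by_contra h3
      exact hsN ((h.c_mem_F_iff hm h3 (b.le hs)).1 h2)
    · exact fun h2 => h.comm_EW h2 (b.le hs)

/-- `|l : l ∩ E| ≤ |A₀ : A₀ ∩ F|` for `l ≤ V` -/
theorem relIndex_le {l : Subgroup G} (hl : l ≤ V) (hBN : ¬ B ≤ NN V F) :
    (EE V F).relIndex l ≤ F.relIndex (V ⊓ B) := by
  obtain ⟨s, hs, hsN⟩ := SetLike.not_le_iff_exists.1 hBN
  exact (b.cos' h hl hs hsN).le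

/-- **(4)** a subgroup `l ≤ V`, `l ≰ E`, `l ∩ F = 1`, not FF, is not normalised by `B`. -/
theorem no_line {l : Subgroup G} (hl : l ≤ V) (hlE : ¬ l ≤ EE V F) (hlF : l ⊓ F = ⊥) (hnff : NotFF l)
    (hBN : ¬ B ≤ NN V F) (hB2 : ∀ s ∈ B, s ^ 2 = 1) (hBc : B ≤ centralizer (B : Set G)) :
    ¬ B ≤ normalizer (l : Set G) := by
  intro hn
  -- `[w, s] ∈ l`
  have hcl : ∀ w ∈ l, ∀ s ∈ B, c w s ∈ l := by
    intro w hw s hs
    have h1 : s * w⁻¹ * s⁻¹ ∈ l := (mem_normalizer_iff.1 (hn hs) _).1 (inv_mem hw)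
    have e : c w s = w * (s * w⁻¹ * s⁻¹) := by rw [c]; group
    rw [e]
    exact mul_mem hw h1
  have hone : ∀ {w s : G}, c w s = 1 → w * s = s * w := by
    intro w s h1
    rw [c] at h1
    exact mul_inv_eq_iff_eq_mul.1 (mul_inv_eq_one.1 h1)
  have hlF' : ∀ x ∈ l, x ∈ F → x = 1 := by
    intro x hx hxF
    have h1 : x ∈ l ⊓ F := ⟨hx, hxF⟩
    rwa [hlF, mem_bot] at h1
  -- `C_B(l) ≤ N`
  have h1 : centralizer (l : Set G) ⊓ B ≤ NN V F := by
    rintro s ⟨hs1, hs2⟩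
    obtain ⟨w, hw, hwE⟩ := SetLike.not_le_iff_exists.1 hlE
    refine (h.c_mem_F_iff (hl hw) hwE (b.le hs2)).1 ?_
    have h2 : c w s = 1 := by
      rw [c, mem_centralizer_iff.1 hs1 w hw, mul_inv_cancel_right, mul_inv_cancel]
    rw [h2]
    exact one_mem _
  have hBl : ¬ B ≤ centralizer (l : Set G) := fun h2 => hBN ((le_inf h2 le_rfl).trans h1)
  have hP : IsPGroup 2 B := fun x => ⟨1, Subtype.ext (by simpa using hB2 x x.2)⟩
  have h2 := hnff B hP hn (fun s hs => by rw [hB2 s hs]; exact one_mem _) (fun s hs t ht => by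
    have e : s * t = t * s := (mem_centralizer_iff.1 (hBc hs) t ht).symm
    rw [e, mul_inv_cancel_right, mul_inv_cancel]; exact one_mem _) hBl
  have h3 : (centralizer (B : Set G)).relIndex l ≤ (EE V F).relIndex l := by
    rw [← inf_relIndex_right (EE V F), ← inf_relIndex_right (centralizer (B : Set G))]
    refine relIndex_le_of_le_left (le_inf ?_ inf_le_right) index_ne_zero_of_finite
    rintro w ⟨hwE, hwl⟩
    rw [mem_centralizer_iff]
    intro s hs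
    exact (hone (hlF' _ (hcl w hwl s hs) (h.comm_EW hwE (b.le hs)))).symm
  have h4 : (NN V F).relIndex B ≤ (centralizer (l : Set G)).relIndex B := by
    rw [← inf_relIndex_right (centralizer (l : Set G)), ← inf_relIndex_right (NN V F)]
    exact relIndex_le_of_le_left (le_inf h1 inf_le_right) index_ne_zero_of_finite
  have h5 := b.relIndex_le h hl hBN
  have h6 := b.le_relIndex h
  omega

end BN

/-! ### the frame `Bt` -/

namespace Bt

open Cfsg.Agent.ZN.ChoiceBase (cj cj_cj cj_mono)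
open Cfsg.Agent.Omega.NO3b.EZero
open Cfsg.Agent.Omega.NO3b.K0 (cj_of_le)

variable [Finite G] {V F T X L Q0 V' F₁ : Subgroup G} (t : Bt V F T X L Q0 V' F₁)
include t

theorem bn : BN V' F₁ (BB V X F₁) := ⟨t.B_le_W, X'_norm_B⟩

/-- **(3)** -/
theorem exists_B {w : G} (hw : w ∈ V') (hwE : w ∉ EE V' F₁) {r : G} (hr : r ∈ V' ⊓ BB V X F₁) :
    ∃ b ∈ BB V X F₁, c w b * r⁻¹ ∈ F₁ := by
  obtain ⟨s, hs, h1⟩ := t.bn.surj t.hy hw hwE hr
  refine ⟨s, hs, ?_⟩
  rwa [t.hy.inv (t.hy.c_memV hw (t.B_le_W hs)), ← t.hy.inv hr.1] at h1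

/-- **(3)** -/
theorem relIndex_B : (NN V' F₁).relIndex (BB V X F₁) = F₁.relIndex (V' ⊓ BB V X F₁) := t.bn.relIndex_eq t.hy

theorem B_nle : ¬ BB V X F₁ ≤ NN V' F₁ := by
  intro h0
  have h1 := t.relIndex_B
  rw [relIndex_eq_one.2 h0] at h1
  have h2 : V' ⊓ BB V X F₁ ≤ F₁ := relIndex_eq_one.1 h1.symm
  have h3 : cl V X ≤ F₁ := (le_inf t.UV U_le_B).trans h2
  have h4 : WW V' F₁ ≤ centralizer (cl V X : Set G) :=
    NOne.Flat.Hyp.W_le_X.trans (centralizer_le h3)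
  exact t.WX (t.pan.le_o2_of_cent_U NOne.Flat.Hyp.W_isPGroup (t.WQ.trans t.pan.Q0_X) h4)

/-- **(4)** -/
theorem line {h : G} (_hB : BB V X F₁ ≤ cj h Q0) (hU : cj h (cl V X) ≤ V') {x : G} (hx : x ∈ X)
    (hn : BB V X F₁ ≤ normalizer ((cj (h * x) V : Subgroup G) : Set G)) :
    BB V X F₁ ≤ centralizer ((cj (h * x) V : Subgroup G) : Set G) := by
  have h1 : cj (h * x) V ≤ V' := by
    rw [← cj_cj]
    exact (cj_mono h (cj_le_cl hx)).trans hU
  by_cases hE : cj (h * x) V ≤ EE V' F₁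
  · refine cl_le fun y hy => ?_
    have h2 : cl V X ≤ centralizer ((cj (y⁻¹ * (h * x)) V : Subgroup G) : Set G) := by
      refine cent_symm (t.sm (y⁻¹ * (h * x)) ?_ ?_)
      · rw [← cj_cj]
        exact ((cj_mono _ hE).trans (conjE_le_W' (inv_mem hy))).trans (t.WQ.trans t.pan.Q0_X)
      · have h3 := cj_norm (g := y⁻¹) hn
        rw [cj_of_le X'_norm_B (inv_mem hy), cj_cj] at h3
        exact U_le_B.trans h3
    have h3 := cj_cent (g := y) h2
    rwa [cj_cj, mul_inv_cancel_left] at h3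
  · have hF : cj (h * x) V ⊓ F₁ = ⊥ := by
      by_contra h2
      exact hE (t.le_E h1 h2)
    exact absurd hn (t.bn.no_line t.hy h1 hE hF (t.pan.nff.cj _) t.B_nle t.B_sq t.B_comm)

end Bt

end Cfsg.Agent.Omega.NO3b.BetaTwo
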