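import Cfsg.Agent.Omega.NO3b.BetaTwo.Def
import Cfsg.Agent.Omega.NO3b.Exit.Bridge

/-!
# No over-offenders on `U = ⟨V^X⟩` (THEOREM BETA2, bb #20914, the field `hno` of `Bt`)

* `noover_gen` : in the situation `DatU` of THEOREM L, `U = ⟨V^X⟩` : `|E| |C_U(E)| ≤ |U|` for every elementary
  abelian 2-subgroup `E` of `X` (E minimal with `|E| |C_U(E)|` maximal: `E ≤ O₂(X)` centralises all lines; otherwise
  TIGHT gives equality);
* `Sit.noover`, `noOver_of` : the same in `G`.
-/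

set_option autoImplicit false

namespace Cfsg.Agent.Omega.NO3b.BetaTwo

open Subgroup Cfsg
open Cfsg.Agent.ZN (o2 zc zl)
open Cfsg.Agent.ZN.ChoiceBase (cj mem_cj cj_mono cj_eq_of_mem_normalizer mem_normalizer_iff_cj)
open Cfsg.Agent.Omega.FF.Basic (fx mm EA mm_bot)
open Cfsg.Agent.Omega.NO3b.EZero (cl cj_le_cl cl_le)
open Cfsg.Agent.Omega.NO3b.Exit.Bridge
open Cfsg.Agent.Omega.NO3b.Exit.TT (cf nf mem_cf mem_nf le_cf BO)
open Cfsg.Agent.Omega.FFBr (im)
open Cfsg.Agent.Omega.NOThreeL.Star (ff)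
open Cfsg.Agent.Omega.NO3b.TheoremL.Tight (DatU MBU tight)
open scoped Pointwise

section abstract_

variable {X : Type*} [Group X] {U : Type*} [AddCommGroup U] [DistribMulAction X U] {S : Sylow 2 X}
  {V F : AddSubgroup U}

/-- **no over-offenders** on `U = ⟨V^X⟩` -/
theorem noover_gen [Finite X] [Finite U] (h : DatU S V F)
    (hgen : ∀ K : AddSubgroup U, (∀ x : X, x • V ≤ K) → K = ⊤) {E : Subgroup X} (hE : EA E) :
    mm U E ≤ Nat.card U := by
  classical
  by_contra hcon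
  push Not at hcon
  obtain ⟨E₁, hE₁, hmax⟩ := Set.exists_max_image {E' : Subgroup X | E' ≤ E} (fun E' => mm U E') (Set.toFinite _) ⟨E, le_refl E⟩
  obtain ⟨E₂, ⟨hE₂, hE₂m⟩, hmin⟩ := Set.exists_min_image {E' : Subgroup X | E' ≤ E ∧ mm U E' = mm U E₁}
    (fun E' => Nat.card E') (Set.toFinite _) ⟨E₁, hE₁, rfl⟩
  have h1 : Nat.card U < mm U E₂ := by
    rw [hE₂m]; exact lt_of_lt_of_le hcon (hmax E (le_refl E))
  have hbo : BO U E₂ := ⟨hE.mono hE₂, fun E' h' => by rw [hE₂m]; exact hmax E' (h'.trans hE₂)⟩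
  by_cases hQ : E₂ ≤ pCore 2 X
  · have h2 : fx U E₂ = ⊤ := hgen _ fun x => le_cf.1 (h.bo_cent hbo (x := x) (hQ.trans (h.core_nf x)))
    have h3 : E₂ = ⊥ := by
      rw [Subgroup.eq_bot_iff_forall]
      intro e he
      apply h.faith
      intro u
      have hu : u ∈ fx U E₂ := by rw [h2]; trivial
      exact hu e he
    rw [h3, mm_bot] at h1
    exact lt_irrefl _ h1
  · have m₂ : MBU U E₂ :=
      { ea := hE.mono hE₂
        nle := hQ
        off := h1.le
        min := fun E' h' h0 => by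
          refine lt_of_le_of_ne (hbo.le E' h'.le) fun heq => ?_
          have h2 := hmin E' ⟨h'.le.trans hE₂, heq.trans hE₂m⟩
          exact h'.ne (Subgroup.eq_of_le_of_card_ge h'.le h2) }
    have h2 := (tight h m₂).mm_eq
    omega

end abstract_

universe u

variable {G : Type u} [Group G]

variable [Finite G] {V F T X : Subgroup G}

/-- **no over-offenders** on `⟨V^X⟩` -/
theorem Sit.noover (s : Sit V F T X (cl V X)) {A : Subgroup G} (hA : A ≤ X)
    (hsq : ∀ a ∈ A, a ^ 2 ∈ centralizer (cl V X : Set G))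
    (_hcomm : ∀ a ∈ A, ∀ b ∈ A, a * b * a⁻¹ * b⁻¹ ∈ centralizer (cl V X : Set G)) :
    (centralizer (cl V X : Set G)).relIndex A ≤ (centralizer (A : Set G)).relIndex (cl V X) := by
  have h : X ≤ normalizer (cl V X : Set G) := s.XU
  have hX : X ≤ X := le_rfl
  obtain ⟨P, hP⟩ := s.exists_syl h hX
  have hE : EA (imx h X A) := by
    intro y hy
    obtain ⟨x, hx, rfl⟩ := exists_of_mem_imx h hX hA hy
    rw [← map_mul, phi_eq_one]
    have h1 := hsq _ hx
    rw [pow_two] at h1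
    exact h1
  have hgen : ∀ K : AddSubgroup (MU s.cm), (∀ y : ↥(im h X), y • ad s.cm V ≤ K) → K = ⊤ := by
    intro K hK
    have h1 : cl V X ≤ un K := by
      refine cl_le fun x hx => ?_
      have h2 := hK (phi h hX ⟨x, hx⟩)
      have h3 : phi h hX ⟨x, hx⟩ • ad s.cm V = ad s.cm (cj x V) := sm_phi h hX ⟨x, hx⟩ V
      rw [h3] at h2
      intro v hv
      exact ⟨Exit.Bridge.mk s.cm (cj_le_cl hx hv), h2 (mem_ad.2 hv), rfl⟩
    rw [eq_top_iff]
    intro w _
    exact val_mem_un.1 (h1 (val_mem w))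
  have h1 := noover_gen (s.datU h hX hP) hgen hE
  rw [mm_imx h hA hX, card_MU, ff] at h1
  have h2 := NOThreeL.Star.rel_mul_card (cl V X) (centralizer (A : Set G))
  rw [← h2] at h1
  exact Nat.le_of_mul_le_mul_right h1 Nat.card_pos

/-- the field `hno` of `Bt` -/
theorem noOver_of (s : Sit V F T X (cl V X)) : NoOver V X := fun _ hA hsq hcomm => Sit.noover s hA hsq hcomm

/-- the panel as a `Sit` on `⟨V^X⟩` -/
theorem sit_of_pan {L Q0 : Subgroup G} (p : K0.Mix.Pan V F T X L Q0)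
    (hmin : ∀ M : Subgroup G, T ≤ M → M ≤ X → M ≠ X → M ≤ normalizer (V : Set G)) : Sit V F T X (cl V X) where
  cm := p.U_comm
  sq := p.U_sq
  VU := EZero.le_cl V X
  XU := EZero.le_normalizer_cl V X
  nff := p.nff
  FV := p.F_le
  XF := p.X_le
  syl := p.syl
  mp := p.mp
  TV := p.T_norm
  nle := p.nle
  min := hmin
  ti := fun x hx hn => (p.line x hx hn).le

theorem noOver_of_pan {L Q0 : Subgroup G} (p : K0.Mix.Pan V F T X L Q0)
    (hmin : ∀ M : Subgroup G, T ≤ M → M ≤ X → M ≠ X → M ≤ normalizer (V : Set G)) : NoOver V X :=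
  noOver_of (sit_of_pan p hmin)

end Cfsg.Agent.Omega.NO3b.BetaTwo
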