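import Cfsg.Agent.Omega.NO3b.BetaTwo.Plug
import Cfsg.Agent.Omega.NO3b.BetaTwo.Line
import Cfsg.Agent.Omega.NO3b.BetaTwo.Cnt
import Cfsg.Agent.Omega.NO3b.BetaTwo.Key
import Cfsg.Agent.Omega.NO3b.BetaTwo.End
import Cfsg.Agent.Omega.NO3b.BetaTwo.NoOver

/-!
# THEOREM BETA2 (bb #20914): (β2) is impossible

* `Bt.false` : no `H = ⟨L, X⟩` with `⟨V^H⟩ ≤ V'`, `⟨V^H⟩ ≰ E`;
* `beta2` : at a member `L` of the chain every panel with `V_H` not FF has `V_H ≤ O₂(C_G(Z))`;
* `last_ff` : at the last member `V_H` is FF for every panel.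
-/

set_option autoImplicit false

namespace Cfsg.Agent.Omega.NO3b.BetaTwo

open Subgroup Cfsg
open Cfsg.Agent.ZN (o2 zc zl)
open Cfsg.Agent.ZN.ChoiceBase hiding mem_zc
open Cfsg.Agent.Omega.NO3b.EZero (NotFF Par cent_symm cj_cent cl le_cl cj_le_cl cl_le le_normalizer_cl)
open Cfsg.Agent.Omega.NO3b.Alpha (Fl)
open Cfsg.Agent.Omega.NO3b.Wc
open Cfsg.Agent.Omega.NO3b.Exit
open Cfsg.Agent.Omega.NO3b.Chain
open Cfsg.Agent.Omega.NO3b.K0.Mix (Pan SM Two)
open Cfsg.Agent.Omega.NOne.Flat (EE WW NN)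
open Cfsg.Agent.Omega.NOne.NearFF (c)

universe u

variable {G : Type u} [Group G] [Finite G]

/-- **THEOREM BETA2**, abstract form -/
theorem Bt.false {V F T X L Q0 V' F₁ : Subgroup G} (t : Bt V F T X L Q0 V' F₁) {H : Subgroup G}
    (hH : H ≤ L ⊔ X) (hLH : L ≤ H) (hXH : X ≤ H) (hE : ¬ cl V H ≤ EE V' F₁) (hV' : cl V H ≤ V') : False := by
  obtain ⟨h, hh, hB, hn⟩ := t.exists_gal hH hLH hXH hE
  have hU : cj h (cl V X) ≤ V' := by
    refine le_trans ?_ hV'
    unfold cl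
    rw [EZero.cj_iSup]
    refine iSup_le fun x => ?_
    rw [cj_cj]
    exact cj_le_cl (mul_mem hh (hXH x.2))
  have hc := t.count hB hU hn fun x hx h1 => t.line hB hU hx h1
  obtain ⟨ρ, hρ⟩ := t.key (fun w hw hwE r hr => t.exists_B hw hwE hr) t.relIndex_B t.B_nle hc
  exact end_ t.pan t.noov t.two t.hy t.hoff t.WQ t.WX t.V_le_F₁ t.U_le_E ρ
    fun r hr hrF => hρ r ⟨t.UV hr, Bt.U_le_B hr⟩ hrF

variable {S : Sylow 2 G} {L F T X : Subgroup G}

/-- **THEOREM BETA2** -/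
theorem beta2 (h : Stage S L) (hc : IsCharacteristicTwoType G) (hne : zc (S : Subgroup G) ≠ ⊥)
    (f : Fl S (VL (S : Subgroup G) L) F T) (hZ : zc (S : Subgroup G) ≤ F)
    (p : Par (VL (S : Subgroup G) L) F T X) (hn : NotFF (zl (S : Subgroup G) (nx (S : Subgroup G) L X))) :
    zl (S : Subgroup G) (nx (S : Subgroup G) L X) ≤ o2 (centralizer (zc (S : Subgroup G) : Set G)) := by
  by_contra hV
  have l := h.lines hc hne
  have pn := pan f l p fun g hg => Alpha.ti hc l g hg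
  have s := Bridge.Sit.of_fl hc l f p pn.U_comm pn.U_sq (le_cl _ _) (le_normalizer_cl _ _)
  obtain ⟨F₁, t, h1, h2⟩ := exists_bt h hc hne f hZ p (noOver_of s) hn hV
  have e : normalizer (((S : Subgroup G) ⊓ centralizer (VL (S : Subgroup G) L : Set G) : Subgroup G) : Set G) =
      ML (S : Subgroup G) L := by
    rw [h.toRoot.cs_V]
    rfl
  rw [e] at t
  exact t.false (le_refl (nx (S : Subgroup G) L X)) le_sup_left le_sup_right h1 h2

/-- At the last member of the chain `V_H` is FF for every panel. -/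
theorem last_ff (h : Stage S L) (hc : IsCharacteristicTwoType G) (hne : zc (S : Subgroup G) ≠ ⊥)
    (hl : ∀ F T X, ¬ Step S L F T X) (f : Fl S (VL (S : Subgroup G) L) F T) (hZ : zc (S : Subgroup G) ≤ F)
    (p : Par (VL (S : Subgroup G) L) F T X) : ¬ NotFF (zl (S : Subgroup G) (nx (S : Subgroup G) L X)) := by
  intro hn
  rcases last_or hc hne h hl f hZ p with h1 | h1
  · exact h1 hn
  · exact h1 (beta2 h hc hne f hZ p hn)

end Cfsg.Agent.Omega.NO3b.BetaTwo
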