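import Cfsg.Agent.Omega.NO3b.BetaTwo.Def
import Cfsg.Agent.Omega.NO3b.Chain.Two
import Cfsg.Agent.Omega.NO3b.Exit.AllLocal

/-!
# THEOREM BETA2 (bb #20914): the frame at a member of the chain

`Stage S L`, `(F, T, X)` a panel of `V = VL S L`, `Z ≤ F`, `H = nx S L X`, `V_H = zl S H` not FF and not in
`O₂(C_G(Z))`: `exists_bt` : `Bt V F T X (N_G(C_S(V))) C_S(V) V' F₁`, `V' = VL S (LH S H)`, with `⟨V^H⟩ ≤ V'`,
`⟨V^H⟩ ≰ E`.
-/

set_option autoImplicit false

namespace Cfsg.Agent.Omega.NO3b.BetaTwo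

open Subgroup Cfsg
open Cfsg.Agent.ZN (o2 zc zl)
open Cfsg.Agent.ZN.ChoiceBase hiding mem_zc
open Cfsg.Agent.Omega.NO3b.EZero (NotFF Par cent_symm cj_cent cl le_cl cj_le_cl cl_le le_normalizer_cl)
open Cfsg.Agent.Omega.NO3b.Alpha (Fl)
open Cfsg.Agent.Omega.NO3b.Wc
open Cfsg.Agent.Omega.NO3b.Exit
open Cfsg.Agent.Omega.NO3b.Chain
open Cfsg.Agent.Omega.NO3b.K0.Mix (Pan SM Two)
open Cfsg.Agent.Omega.NOne.Flat (EE WW NN)
open Cfsg.Agent.Omega.NOne.NearFF (c)
open Cfsg.Agent.MinSimple.VModule (zc_le_zl le_normalizer_zl zl_le)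

universe u

variable {G : Type u} [Group G] [Finite G] {S : Sylow 2 G} {L F T X : Subgroup G}

/-- the lines are good -/
theorem good_cj (h : Stage S L) (hc : IsCharacteristicTwoType G) (g : G) (D : Subgroup G)
    (hD : D ≤ cj g (VL (S : Subgroup G) L)) (hD1 : D ≠ ⊥) :
    cj g (VL (S : Subgroup G) L) ≤ o2 (centralizer (D : Set G)) := by
  have h1 := h.good hc (D := cj g⁻¹ D) (by
    have h1 := cj_mono g⁻¹ hD
    rwa [cj_inv_cj] at h1) (fun h0 => hD1 (by
    have h1 := congrArg (cj g) h0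
    rwa [cj_cj_inv, K0.cj_bot'] at h1))
  have h2 := cj_mono g h1
  rwa [← Cfsg.Agent.ZN.ChoiceBase.pCore_cj, cj_centralizer, cj_cj_inv] at h2

section

variable (h : Stage S L) (hc : IsCharacteristicTwoType G) (hne : zc (S : Subgroup G) ≠ ⊥)
  (f : Fl S (VL (S : Subgroup G) L) F T) (hZ : zc (S : Subgroup G) ≤ F)
  (p : Par (VL (S : Subgroup G) L) F T X)
include h hc hne f hZ p

theorem exists_bt (hno : NoOver (VL (S : Subgroup G) L) X) (hn : NotFF (zl (S : Subgroup G) (nx (S : Subgroup G) L X)))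
    (hV : ¬ zl (S : Subgroup G) (nx (S : Subgroup G) L X) ≤ o2 (centralizer (zc (S : Subgroup G) : Set G))) :
    ∃ F₁ : Subgroup G, Bt (VL (S : Subgroup G) L) F T X
      (normalizer (((S : Subgroup G) ⊓ centralizer (VL (S : Subgroup G) L : Set G) : Subgroup G) : Set G))
      ((S : Subgroup G) ⊓ centralizer (VL (S : Subgroup G) L : Set G))
      (VL (S : Subgroup G) (LH (S : Subgroup G) (nx (S : Subgroup G) L X))) F₁ ∧
      ¬ cl (VL (S : Subgroup G) L) (nx (S : Subgroup G) L X) ≤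
        EE (VL (S : Subgroup G) (LH (S : Subgroup G) (nx (S : Subgroup G) L X))) F₁ ∧
      cl (VL (S : Subgroup G) L) (nx (S : Subgroup G) L X) ≤
        VL (S : Subgroup G) (LH (S : Subgroup G) (nx (S : Subgroup G) L X)) := by
  set V := VL (S : Subgroup G) L with hVd
  set H := nx (S : Subgroup G) L X with hH
  set V' := VL (S : Subgroup G) (LH (S : Subgroup G) H) with hV'
  have fr := h.fr hc hne f hZ p
  have a := h.adm hc hne
  have l := h.lines hc hne
  have hOff := Final.stmtOff G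
  have hle : zl (S : Subgroup G) H ≤ V' := fr.zl_le_V' a hn
  obtain ⟨F₁, hF₁, hWB, hWX, -⟩ := fr.beta a hc hOff (S_ne hne) hn (fun h0 => hV (hle.trans h0))
  have root : Root S (LH (S : Subgroup G) H) := root_LH (fr.SH a) fr.char2 hn
  have hy : NOne.Flat.Hyp V' F₁ := hyp_of hc root hF₁
  have pn := pan f l p fun g hg => Alpha.ti hc l g hg
  have hVH : cl V H ≤ zl (S : Subgroup G) H := by
    refine cl_le fun x hx => ?_
    have h1 := cj_mono x fr.V_le
    rwa [cj_eq_of_mem_normalizer (le_normalizer_zl _ _ hx)] at h1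
  have hHV : zl (S : Subgroup G) H ≤ cl V H :=
    zl_le (l.ZV.trans (le_cl _ _)) (le_normalizer_cl V H)
  have hUH : cl V X ≤ zl (S : Subgroup G) H := fr.U_le
  refine ⟨F₁, ?_, fun h0 => ?_, hVH.trans hle⟩
  · exact
      { pan := pn
        noov := K0.noOv FFBr.aStmt (f.sylX p) (f.isMinPar l p)
        sm := sm l hc pn
        two := h.two hc hne f hZ p (Or.inr hV)
        hno := hno
        hy := hy
        hoff := hOff _ _ hy
        good := good_cj h hc
        WQ := by
          have h1 := h.toRoot.cs_V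
          rw [h1]
          exact hWB
        WX := hWX
        UV := hUH.trans hle }
  · -- `W` centralises `V_H`
    have h1 : zl (S : Subgroup G) H ≤ EE V' F₁ := hHV.trans h0
    have h2 := hy.off_of_le (hOff _ _ hy) h1
    have hW2 : IsPGroup 2 (WW V' F₁) := WW_pgroup _ _
    have hWH : WW V' F₁ ≤ normalizer (zl (S : Subgroup G) H : Set G) :=
      ((hWB.trans a.wc.le).trans (fr.SH a)).trans (le_normalizer_zl _ _)
    obtain ⟨e1, e2⟩ := hy.elem_W hle
    by_cases hcen : WW V' F₁ ≤ centralizer (zl (S : Subgroup G) H : Set G)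
    · exact hWX (pn.le_o2_of_cent_U hW2 ((hWB.trans fr.BT).trans fr.syl.1) (hcen.trans (centralizer_le hUH)))
    · have h3 := hn (WW V' F₁) hW2 hWH (fun s hs => by rw [pow_two]; exact e2 s hs)
        (fun s hs t ht => e1 s hs t ht) hcen
      exact absurd h2 (not_le.2 h3)

end

end Cfsg.Agent.Omega.NO3b.BetaTwo
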