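import Cfsg.Agent.Omega.NO3b.BetaTwo.FamDef
import Cfsg.Agent.Omega.NO3b.BetaTwo.Plug
import Cfsg.Agent.Omega.NO3b.BetaTwo.NoOver

/-!
# THEOREM BETA2 for a family of panels (helper506, bb #21336 (A)): the frame for an admissible `B`

`Adm S L B`, `V = VB S B`, `(F i, T i, X i)` panels of `V` with two noncentral factors, `J = JB B X = ⟨N_G(B), X i⟩`
2-local, `V_J = zl S J` not FF, `V'_J = VL S (LH S J)`:

* `good_adm` : `V ≤ O₂(C_G(D))` for `1 ≠ D ≤ V` (from TI);
* `exists_btF_adm` : `V'_J ≰ O₂(C_G(Z))` gives the frame `BtF`;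
* `closed_adm` : `V'_J ≤ O₂(C_G(Z))` gives an admissible `B' < B`.
-/

set_option autoImplicit false
set_option linter.unusedSectionVars false

namespace Cfsg.Agent.Omega.NO3b.BetaTwo

open Subgroup Cfsg
open Cfsg.Agent.ZN (o2 zc zl)
open Cfsg.Agent.ZN.ChoiceBase hiding mem_zc
open Cfsg.Agent.ZN.ChoiceSit (o2_le_syl)
open Cfsg.Agent.Omega.NO3b.EZero (NotFF Par cent_symm cj_cent cl le_cl cj_le_cl cl_le le_normalizer_cl)
open Cfsg.Agent.Omega.NO3b.Alpha (Fl)
open Cfsg.Agent.Omega.NO3b.Wc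
open Cfsg.Agent.Omega.NO3b.Exit
open Cfsg.Agent.Omega.NO3b.Chain
open Cfsg.Agent.Omega.NO3b.K0.Mix (Pan SM Two)
open Cfsg.Agent.Omega.NOne.Flat (EE WW NN)
open Cfsg.Agent.Omega.NOne.NearFF (c)
open Cfsg.Agent.MinSimple.VModule (zc_le_zl le_normalizer_zl zl_le le_normalizer_o2 le_o2 mem_normalizer_of_map_le)

universe u v

variable {G : Type u} [Group G]

/-- `J = ⟨N_G(B), X i⟩` -/
def JB {ι : Type v} (B : Subgroup G) (X : ι → Subgroup G) : Subgroup G := normalizer (B : Set G) ⊔ ⨆ i, X i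

variable [Finite G] {S : Sylow 2 G} {L B : Subgroup G} {ι : Type v} {F T X : ι → Subgroup G}

/-- `V ≤ O₂(C_G(D))` for `1 ≠ D ≤ V` -/
theorem good_adm (a : Adm S L B) (hc : IsCharacteristicTwoType G) {D : Subgroup G}
    (hD : D ≤ VB (S : Subgroup G) B) (hD1 : D ≠ ⊥) : VB (S : Subgroup G) B ≤ o2 (centralizer (D : Set G)) := by
  set V := VB (S : Subgroup G) B with hV
  have l := a.lines
  have hVD : ∀ y ∈ centralizer (D : Set G), D ≤ cj y V := by
    intro y hy d hd
    have h1 := mem_centralizer_iff.1 hy d hd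
    rw [mem_cj, mul_assoc, h1, inv_mul_cancel_left]
    exact hD hd
  have hcm : ∀ y ∈ centralizer (D : Set G), ∀ z ∈ centralizer (D : Set G),
      cj y V ≤ centralizer ((cj z V : Subgroup G) : Set G) := by
    intro y hy z hz
    have h1 := Alpha.ti hc l (y⁻¹ * z) (by
      intro h0
      apply hD1
      rw [← le_bot_iff, ← h0]
      exact le_inf hD (hVD _ (mul_mem (inv_mem hy) hz)))
    have h2 := cj_cent (g := y) h1
    rwa [cj_cj, mul_inv_cancel_left] at h2
  have hUc : cl V (centralizer (D : Set G)) ≤ centralizer (cl V (centralizer (D : Set G)) : Set G) :=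
    cl_le fun _ hy => cent_symm (cl_le fun _ hz => hcm _ hz _ hy)
  have hsq : ∀ u ∈ cl V (centralizer (D : Set G)), u ^ 2 = 1 := by
    refine EZero.sq_of_comm hUc (fun i : centralizer (D : Set G) => cj_le_cl i.2) le_rfl fun i v hv => ?_
    have h1 := l.sq _ (mem_cj.1 hv)
    have e : v ^ 2 = i * ((i : G)⁻¹ * v * i) ^ 2 * (i : G)⁻¹ := by rw [pow_two, pow_two]; group
    rw [e, h1]; group
  have hle : cl V (centralizer (D : Set G)) ≤ centralizer (D : Set G) := by
    refine cl_le fun y hy => ?_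
    have h1 : V ≤ centralizer (D : Set G) := l.comm.trans (centralizer_le hD)
    have h2 := cj_mono y h1
    rwa [K0.cj_self hy] at h2
  exact (le_cl V _).trans (le_o2 hle (NoEmp.pgroup_of_sq hsq) (le_normalizer_cl _ _))

theorem good_adm_cj (a : Adm S L B) (hc : IsCharacteristicTwoType G) (g : G) (D : Subgroup G)
    (hD : D ≤ cj g (VB (S : Subgroup G) B)) (hD1 : D ≠ ⊥) :
    cj g (VB (S : Subgroup G) B) ≤ o2 (centralizer (D : Set G)) := by
  have h1 := good_adm a hc (D := cj g⁻¹ D) (by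
    have h1 := cj_mono g⁻¹ hD
    rwa [cj_inv_cj] at h1) (fun h0 => hD1 (by
    have h1 := congrArg (cj g) h0
    rwa [cj_cj_inv, K0.cj_bot'] at h1))
  have h2 := cj_mono g h1
  rwa [← Cfsg.Agent.ZN.ChoiceBase.pCore_cj, cj_centralizer, cj_cj_inv] at h2

section

variable (a : Adm S L B) (hc : IsCharacteristicTwoType G)
  (f : ∀ i, Fl S (VB (S : Subgroup G) B) (F i) (T i))
  (p : ∀ i, Par (VB (S : Subgroup G) B) (F i) (T i) (X i))
  (hloc : ∃ R : Subgroup G, R ≠ ⊥ ∧ IsPGroup 2 R ∧ JB B X ≤ normalizer (R : Set G))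
include a hc hloc

omit [Finite G] a hc hloc in
theorem NB_le_JB [Finite G] : normalizer (B : Set G) ≤ JB B X := le_sup_left

omit [Finite G] a hc hloc in
theorem X_le_JB [Finite G] (i : ι) : X i ≤ JB B X := (le_iSup X i).trans le_sup_right

omit hc hloc in
theorem S_le_JB : (S : Subgroup G) ≤ JB B X := (wc_S_le a.wc).trans NB_le_JB

theorem char2_JB : JB B X ⊓ centralizer (o2 (JB B X) : Set G) ≤ o2 (JB B X) := by
  obtain ⟨R, hR, hR2, hJR⟩ := hloc
  exact char2_of_loc hc (S_le_JB a) hR2 hR hJR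

omit hc hloc in
theorem V_le_JB : VB (S : Subgroup G) B ≤ zl (S : Subgroup G) (JB B X) := NOThreeL.Star.zl_mono _ NB_le_JB

omit hc hloc in
theorem cl_le_JB : cl (VB (S : Subgroup G) B) (JB B X) ≤ zl (S : Subgroup G) (JB B X) := by
  refine cl_le fun x hx => ?_
  have h1 := cj_mono x (V_le_JB a (X := X))
  rwa [cj_eq_of_mem_normalizer (le_normalizer_zl _ _ hx)] at h1

theorem zl_le_V'_JB (hn : NotFF (zl (S : Subgroup G) (JB B X))) :
    zl (S : Subgroup G) (JB B X) ≤ VL (S : Subgroup G) (LH (S : Subgroup G) (JB B X)) := by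
  have h1 := (root_LH (S_le_JB a) (char2_JB a hc hloc) hn).zl_le_V
  rwa [zl_LH (S_le_JB a)] at h1

omit hc hloc in
theorem WH_le_JB : WH (S : Subgroup G) (LH (S : Subgroup G) (JB B X)) ≤
    (S : Subgroup G) ⊓ centralizer (zl (S : Subgroup G) (JB B X) : Set G) := by
  have h1 := WH_le (S : Subgroup G) (LH (S : Subgroup G) (JB B X))
  unfold QL at h1
  rwa [zl_LH (S_le_JB a)] at h1

omit hc hloc in
theorem WH_le_B_JB : WH (S : Subgroup G) (LH (S : Subgroup G) (JB B X)) ≤ B :=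
  ((WH_le_JB a).trans (inf_le_inf_left _ (centralizer_le (V_le_JB a)))).trans a.cs.le

include f p

/-- `V'_J ≤ O₂(C_G(Z))`: a smaller admissible subgroup. -/
theorem closed_adm [hι : Nonempty ι] (hn : NotFF (zl (S : Subgroup G) (JB B X)))
    (hV : VL (S : Subgroup G) (LH (S : Subgroup G) (JB B X)) ≤ o2 (centralizer (zc (S : Subgroup G) : Set G))) :
    Adm S L (WH (S : Subgroup G) (LH (S : Subgroup G) (JB B X))) ∧
      WH (S : Subgroup G) (LH (S : Subgroup G) (JB B X)) ≤ B ∧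
      WH (S : Subgroup G) (LH (S : Subgroup G) (JB B X)) ≠ B := by
  have h := root_LH (S_le_JB a) (char2_JB a hc hloc) hn
  have h1 := Adm.of_root h hV
  refine ⟨⟨h1.wc, (WH_le_B_JB a).trans a.le, h1.cs, h1.comm, h1.sq, h1.nff, h1.low⟩, WH_le_B_JB a, fun h0 => ?_⟩
  obtain ⟨i⟩ := hι
  apply (p i).nle
  have h2 : zl (S : Subgroup G) (JB B X) ≤ VB (S : Subgroup G) B := by
    have h3 := zl_le_V'_JB a hc hloc hn
    have h4 : VL (S : Subgroup G) (LH (S : Subgroup G) (JB B X)) =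
        VB (S : Subgroup G) (WH (S : Subgroup G) (LH (S : Subgroup G) (JB B X))) := rfl
    rwa [h4, h0] at h3
  have h3 : zl (S : Subgroup G) (JB B X) = VB (S : Subgroup G) B := le_antisymm h2 (V_le_JB a)
  have h4 := (X_le_JB (B := B) (X := X) i).trans (le_normalizer_zl (S : Subgroup G) (JB B X))
  rwa [h3] at h4

theorem exists_btF_adm (h2 : ∀ i, Two (VB (S : Subgroup G) B) (X i)) (hSne : (S : Subgroup G) ≠ ⊥)
    (hn : NotFF (zl (S : Subgroup G) (JB B X)))
    (hV : ¬ VL (S : Subgroup G) (LH (S : Subgroup G) (JB B X)) ≤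
      o2 (centralizer (zc (S : Subgroup G) : Set G))) :
    ∃ F₁ : Subgroup G, BtF (VB (S : Subgroup G) B) F T X (normalizer (B : Set G)) B
      (VL (S : Subgroup G) (LH (S : Subgroup G) (JB B X))) F₁ ∧
      ¬ cl (VB (S : Subgroup G) B) (JB B X) ≤
        EE (VL (S : Subgroup G) (LH (S : Subgroup G) (JB B X))) F₁ ∧
      cl (VB (S : Subgroup G) B) (JB B X) ≤ VL (S : Subgroup G) (LH (S : Subgroup G) (JB B X)) := by
  set V := VB (S : Subgroup G) B with hVd
  set J := JB B X with hJ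
  set V' := VL (S : Subgroup G) (LH (S : Subgroup G) J) with hV'
  have l := a.lines
  have hOff := Final.stmtOff G
  have hMJ : normalizer (B : Set G) ≤ J := NB_le_JB
  have hXJ : ∀ i, X i ≤ J := X_le_JB
  have hSJ : (S : Subgroup G) ≤ J := S_le_JB a
  have char2 : J ⊓ centralizer (o2 J : Set G) ≤ o2 J := char2_JB a hc hloc
  have pn : ∀ i, Pan V (F i) (T i) (X i) (normalizer (B : Set G)) B := fun i => by
    have h1 := pan (f i) l (p i) fun g hg => Alpha.ti hc l g hg
    rwa [a.cs] at h1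
  have hBT : ∀ i, B ≤ T i := fun i => by
    have hQ := (f i).Q0_le
    rwa [a.cs] at hQ
  have root : Root S (LH (S : Subgroup G) J) := root_LH hSJ char2 hn
  have hle : zl (S : Subgroup G) J ≤ V' := zl_le_V'_JB a hc hloc hn
  have hVJ : V ≤ zl (S : Subgroup G) J := V_le_JB a
  have hVH : cl V J ≤ zl (S : Subgroup G) J := cl_le_JB a
  have hHV : zl (S : Subgroup G) J ≤ cl V J :=
    zl_le (l.ZV.trans (le_cl _ _)) (le_normalizer_cl V J)
  have hUH : ∀ i, cl V (X i) ≤ zl (S : Subgroup G) J := fun i => cl_le fun x hx =>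
    (cj_le_cl (V := V) (hXJ i hx)).trans hVH
  -- `W_F ≤ S` implies `W_F ≤ B`
  have hWB : ∀ F, MaxBad V' F → WW V' F ≤ (S : Subgroup G) → WW V' F ≤ B := by
    intro F hF hFS
    refine le_trans (le_inf hFS ?_) a.cs.le
    by_contra hne
    have hoff := off_of hc hOff root hF hFS (hVJ.trans hle) a.low hne
    have h3 := a.nff _ (WW_pgroup _ _) (hFS.trans a.lines.S_le) hoff.sq hoff.comm hne
    exact absurd (FFThm.relIndex_le_iff.1 hoff.le) (not_le.2 h3)
  have hWHle := WH_le_JB a (X := X)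
  have hWHB := WH_le_B_JB a (X := X)
  obtain ⟨F0, hF0, hS0, hne0⟩ := exists_WW hc hSne root hV
  rw [zl_LH hSJ] at hne0
  set Fam : Set (Subgroup G) := {D | D = WH (S : Subgroup G) (LH (S : Subgroup G) J) ∨
      ∃ F, MaxBad V' F ∧ WW V' F = D ∧ WW V' F ≤ (S : Subgroup G)} with hFam
  have hFamB : ∀ D ∈ Fam, D ≤ B := by
    rintro D (rfl | ⟨F, hF, rfl, hFS⟩)
    · exact hWHB
    · exact hWB F hF hFS
  have hcl : ∀ g ∈ J, (∀ D ∈ Fam, cj g D ≤ (S : Subgroup G)) → ∀ D ∈ Fam, cj g D ≤ sSup Fam := by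
    intro g hg hgS
    have hgM : g ∈ ML (S : Subgroup G) (LH (S : Subgroup G) J) := mem_ML_of_le (hgS _ (Or.inl rfl))
    rintro D (rfl | ⟨F, hF, rfl, hFS⟩)
    · rw [cj_eq_of_mem_normalizer hgM]
      exact le_sSup (Or.inl rfl)
    · have h1 := WW_cj (F := F) (ML_le_norm_V _ _ hgM)
      have h3 := hgS _ (Or.inr ⟨F, hF, rfl, hFS⟩)
      rw [← h1] at h3 ⊢
      exact le_sSup (Or.inr ⟨cj g F, hF.cj (ML_le_norm_V _ _ hgM), rfl, h3⟩)
  have hex : ∃ i, ∃ D ∈ Fam, ¬ D ≤ o2 (X i) := by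
    by_contra hcon
    push Not at hcon
    have hKB : sSup Fam ≤ B := sSup_le hFamB
    have hKS : sSup Fam ≤ (S : Subgroup G) := hKB.trans a.wc.le
    have hcl' : ∀ g ∈ J, cj g (sSup Fam) ≤ (S : Subgroup G) → cj g (sSup Fam) ≤ sSup Fam := by
      intro g hg hgS
      rw [cj_sSup]
      exact iSup_le fun D => hcl g hg (fun D hD => (cj_mono g (le_sSup hD)).trans hgS) D D.2
    have hcore : sSup Fam ≤ o2 J := by
      refine le_o2 (hKS.trans hSJ) (S.isPGroup'.to_le hKS) (sup_le ?_ (iSup_le fun i => ?_))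
      · intro m hm
        refine mem_normalizer_of_map_le (hcl' m (hMJ hm) ?_)
        have h1 := cj_mono m hKB
        rw [cj_eq_of_mem_normalizer hm] at h1
        exact h1.trans a.wc.le
      · intro x hx
        refine mem_normalizer_of_map_le (hcl' x (hXJ i hx) ?_)
        have h1 := cj_mono x (sSup_le (hcon i) : sSup Fam ≤ o2 (X i))
        rw [cj_eq_of_mem_normalizer (le_normalizer_o2 _ hx)] at h1
        exact h1.trans ((o2_le_syl ((f i).sylX (p i))).trans (f i).T_le)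
    exact hne0 (((le_sSup (a := WW V' F0) (Or.inr ⟨F0, hF0, rfl, hS0⟩)).trans hcore).trans (o2_cent hSJ char2))
  obtain ⟨i, D, hD, hDX⟩ := hex
  have hcen : ∀ D, D ≤ B → D ≤ centralizer (zl (S : Subgroup G) J : Set G) → D ≤ o2 (X i) := fun D hDB hDc =>
    (pn i).le_o2_of_cent_U (S.isPGroup'.to_le (hDB.trans a.wc.le)) ((hDB.trans (hBT i)).trans (p i).T_le)
      (hDc.trans (centralizer_le (hUH i)))
  rcases hD with rfl | ⟨F₁, hF₁, rfl, hFS⟩
  · exact absurd (hcen _ hWHB (hWHle.trans inf_le_right)) hDX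
  have hWB₁ := hWB F₁ hF₁ hFS
  have hy : NOne.Flat.Hyp V' F₁ := hyp_of hc root hF₁
  refine ⟨F₁, ?_, fun h0 => ?_, hVH.trans hle⟩
  · exact
      { pan := pn
        noov := fun i => K0.noOv FFBr.aStmt ((f i).sylX (p i)) ((f i).isMinPar l (p i))
        sm := fun i => sm l hc (pn i)
        two := h2
        hno := fun i => noOver_of (Bridge.Sit.of_fl hc l (f i) (p i) (pn i).U_comm (pn i).U_sq (le_cl _ _)
          (le_normalizer_cl _ _))
        hy := hy
        hoff := hOff _ _ hy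
        good := good_adm_cj a hc
        WQ := hWB₁
        WX := ⟨i, hDX⟩
        UV := fun i => (hUH i).trans hle }
  · -- `W` centralises `V_J`
    have h1 : zl (S : Subgroup G) J ≤ EE V' F₁ := hHV.trans h0
    have h3 := hy.off_of_le (hOff _ _ hy) h1
    have hW2 : IsPGroup 2 (WW V' F₁) := WW_pgroup _ _
    have hWH : WW V' F₁ ≤ normalizer (zl (S : Subgroup G) J : Set G) :=
      ((hWB₁.trans a.wc.le).trans hSJ).trans (le_normalizer_zl _ _)
    obtain ⟨e1, e2⟩ := hy.elem_W hle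
    by_cases hcen' : WW V' F₁ ≤ centralizer (zl (S : Subgroup G) J : Set G)
    · exact hDX (hcen _ hWB₁ hcen')
    · have h4 := hn (WW V' F₁) hW2 hWH (fun s hs => by rw [pow_two]; exact e2 s hs)
        (fun s hs t ht => e1 s hs t ht) hcen'
      exact absurd h3 (not_le.2 h4)

end

end Cfsg.Agent.Omega.NO3b.BetaTwo
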