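import Cfsg.Agent.Omega.NO3b.BetaTwo.Def
import Cfsg.Agent.Omega.NO3b.K0.Mix.Mutual

/-!
# THEOREM BETA2 for a family of panels (helper506, bb #21336 (A)), part 1: the frame, the gallery

`BtF V F T X L Q0 V' F₁`, `F T X : ι → Subgroup G` : panels `X i` over one line `V` with `NoOv`, `SM`, `Two`, `NoOver`;
`W = WW V' F₁ ≤ Q0`, `W ≰ O₂(X i)` for some `i`, `⟨V^{X i}⟩ ≤ V'`, the lines are good.

* `comm_of_le'` : the mutual pair for two panels over one line;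
* `BtF.le_E` (G1); `BF V X F₁ = ⨆ i, ⟨U_i^y | y ∈ C_G(F₁)⟩`; `BtF.B_comm`, `BtF.B_le_W` (1);
* `BtF.exists_gal` (2) : the critical panel `(X i)^h`.
-/

set_option autoImplicit false

namespace Cfsg.Agent.Omega.NO3b.BetaTwo

open Subgroup Cfsg Cfsg.Agent.ZN Cfsg.Agent.ZN.ChoiceBase
open Cfsg.Agent.ZN.ChoiceSit (Syl exists_syl syl_conj o2_le_syl)
open Cfsg.Agent.Omega.NO3b.EZero
open Cfsg.Agent.Omega.NO3b.K0 (NoOv cj_of_le cj_self cj_bot')
open Cfsg.Agent.Omega.NO3b.K0.Mix (Pan SM Two Crit k0p)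
open Cfsg.Agent.Omega.NOne.Flat (EE WW NN Bad)
open Cfsg.Agent.Omega.NOne.NearFF (c)

universe u v

variable {G : Type u} [Group G]

/-- The frame for a family of panels. -/
structure BtF [Finite G] {ι : Type v} (V : Subgroup G) (F T X : ι → Subgroup G) (L Q0 V' F₁ : Subgroup G) :
    Prop where
  pan : ∀ i, Pan V (F i) (T i) (X i) L Q0
  noov : ∀ i, NoOv (X i)
  sm : ∀ i, SM V (X i)
  two : ∀ i, Two V (X i)
  hno : ∀ i, NoOver V (X i)
  hy : NOne.Flat.Hyp V' F₁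
  hoff : ∀ E0 : Subgroup G, F₁ ≤ E0 → E0 ≤ EE V' F₁ →
    F₁.relIndex E0 ≤ (centralizer (E0 : Set G)).relIndex (WW V' F₁)
  good : ∀ (g : G) (D : Subgroup G), D ≤ cj g V → D ≠ ⊥ → cj g V ≤ o2 (centralizer (D : Set G))
  WQ : WW V' F₁ ≤ Q0
  WX : ∃ i, ¬ WW V' F₁ ≤ o2 (X i)
  UV : ∀ i, cl V (X i) ≤ V'

/-- `B = ⨆ i, ⟨U_i^y | y ∈ C_G(F₁)⟩` -/
def BF {ι : Type v} (V : Subgroup G) (X : ι → Subgroup G) (F₁ : Subgroup G) : Subgroup G :=
  ⨆ i, BB V (X i) F₁

/-- **(K0P)** for two panels over one line -/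
theorem comm_of_le' [Finite G] {V F T X F' T' X' L Q0 : Subgroup G} (p : Pan V F T X L Q0)
    (p' : Pan V F' T' X' L Q0) (hX : NoOv X) (hX' : NoOv X') (hs : SM V X) (hs' : SM V X') (h2 : Two V X)
    (h2' : Two V X') {a b : G} (h1 : cj a (cl V X) ≤ cj b Q0) (h3 : cj b (cl V X') ≤ cj a Q0) :
    cj a (cl V X) ≤ centralizer ((cj b (cl V X') : Subgroup G) : Set G) := by
  have h4 : cl V X ≤ centralizer ((cj (a⁻¹ * b) (cl V X') : Subgroup G) : Set G) := by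
    refine k0p p p' hX hX' hs hs' h2 h2' ?_ ?_
    · rw [← cj_cj, ← cj_le_iff]
      exact h1.trans (cj_mono b p'.Q0_X)
    · rw [← cj_cj, cj_le_iff, inv_inv]
      exact h3.trans (cj_mono a p.Q0_X)
  have h5 := cj_cent (g := a) h4
  rwa [cj_cj, mul_inv_cancel_left] at h5

namespace BtF

variable [Finite G] {ι : Type v} {V : Subgroup G} {F T X : ι → Subgroup G} {L Q0 V' F₁ : Subgroup G}
  (t : BtF V F T X L Q0 V' F₁)
include t

/-- the frame for one panel `X i` with `W ≰ O₂(X i)` -/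
theorem bt {i : ι} (hi : ¬ WW V' F₁ ≤ o2 (X i)) : Bt V (F i) (T i) (X i) L Q0 V' F₁ where
  pan := t.pan i
  noov := t.noov i
  sm := t.sm i
  two := t.two i
  hno := t.hno i
  hy := t.hy
  hoff := t.hoff
  good := t.good
  WQ := t.WQ
  WX := hi
  UV := t.UV i

/-- `V ≤ F₁` -/
theorem V_le_F₁ : V ≤ F₁ := by
  obtain ⟨i, hi⟩ := t.WX
  exact (t.bt hi).V_le_F₁

/-- **(G1)** a line in `V'` which meets `F₁` is in `E`. -/
theorem le_E {g : G} (h1 : cj g V ≤ V') (h2 : cj g V ⊓ F₁ ≠ ⊥) : cj g V ≤ EE V' F₁ := by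
  obtain ⟨i, hi⟩ := t.WX
  exact (t.bt hi).le_E h1 h2

/-- the lines on `X i` are in `E` -/
theorem line_le_E {i : ι} {x : G} (hx : x ∈ X i) : cj x V ≤ EE V' F₁ := by
  refine t.le_E ((cj_le_cl hx).trans (t.UV i)) fun h0 => (t.pan i).F_ne_bot ?_
  rw [← le_bot_iff, ← h0]
  exact le_inf ((t.pan i).F_le_line hx) ((t.pan i).F_le.trans t.V_le_F₁)

theorem U_le_E (i : ι) : cl V (X i) ≤ EE V' F₁ := cl_le fun _ hx => t.line_le_E hx

theorem cjU_le_W (i : ι) {y : G} (hy : y ∈ centralizer (F₁ : Set G)) : cj y (cl V (X i)) ≤ WW V' F₁ :=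
  (cj_mono y (t.U_le_E i)).trans (Bt.conjE_le_W' hy)

/-- `W ≤ Q0^y` -/
theorem W_le_cj {y : G} (hy : y ∈ centralizer (F₁ : Set G)) : WW V' F₁ ≤ cj y Q0 := by
  have h1 := cj_mono y t.WQ
  rwa [Bt.conj_W' hy] at h1

theorem V_ne_bot : V ≠ ⊥ := by
  obtain ⟨i, -⟩ := t.WX
  exact (t.pan i).V_ne_bot

/-! ### (1) -/

theorem cjU_comm (i j : ι) {y z : G} (hy : y ∈ centralizer (F₁ : Set G)) (hz : z ∈ centralizer (F₁ : Set G)) :
    cj y (cl V (X i)) ≤ centralizer ((cj z (cl V (X j)) : Subgroup G) : Set G) :=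
  comm_of_le' (t.pan i) (t.pan j) (t.noov i) (t.noov j) (t.sm i) (t.sm j) (t.two i) (t.two j)
    ((t.cjU_le_W i hy).trans (t.W_le_cj hz)) ((t.cjU_le_W j hz).trans (t.W_le_cj hy))

omit [Finite G] t in
theorem cjU_le_B (i : ι) {y : G} (hy : y ∈ centralizer (F₁ : Set G)) : cj y (cl V (X i)) ≤ BF V X F₁ :=
  (cj_le_cl (V := cl V (X i)) hy).trans (le_iSup (fun i => BB V (X i) F₁) i)

omit [Finite G] t in
theorem U_le_B (i : ι) : cl V (X i) ≤ BF V X F₁ :=
  (le_cl _ _).trans (le_iSup (fun i => BB V (X i) F₁) i)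

omit [Finite G] t in
theorem B_le {A : Subgroup G} (h : ∀ i, ∀ y ∈ centralizer (F₁ : Set G), cj y (cl V (X i)) ≤ A) : BF V X F₁ ≤ A :=
  iSup_le fun i => cl_le (h i)

theorem B_comm : BF V X F₁ ≤ centralizer (BF V X F₁ : Set G) :=
  B_le fun i _ hy => cent_symm (B_le fun j _ hz => t.cjU_comm j i hz hy)

theorem B_le_W : BF V X F₁ ≤ WW V' F₁ := B_le fun i _ hy => t.cjU_le_W i hy

omit [Finite G] t in
theorem X'_norm_B : centralizer (F₁ : Set G) ≤ normalizer (BF V X F₁ : Set G) := by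
  intro y hy
  rw [mem_normalizer_iff_cj, BF, EZero.cj_iSup]
  congr 1
  funext i
  exact cj_cl hy

theorem cjU_sq (i : ι) (y : G) : ∀ u ∈ cj y (cl V (X i)), u ^ 2 = 1 := by
  intro v hv
  have h1 := (t.pan i).U_sq _ (mem_cj.1 hv)
  have e : v ^ 2 = y * (y⁻¹ * v * y) ^ 2 * y⁻¹ := by rw [pow_two, pow_two]; group
  rw [e, h1]; group

theorem B_sq : ∀ b ∈ BF V X F₁, b ^ 2 = 1 :=
  sq_of_comm t.B_comm (ι := ι × centralizer (F₁ : Set G)) (B := fun i => cj (i.2 : G) (cl V (X i.1)))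
    (fun i => cjU_le_B i.1 i.2.2)
    (B_le fun i y hy => le_iSup (fun i : ι × centralizer (F₁ : Set G) => cj (i.2 : G) (cl V (X i.1))) (i, ⟨y, hy⟩))
    fun i => t.cjU_sq i.1 i.2

theorem isPGroup_B : IsPGroup 2 (BF V X F₁) := fun x => ⟨1, Subtype.ext (by simpa using t.B_sq x x.2)⟩

/-! ### (2) -/

/-- the step of the gallery -/
theorem gal_step {h : G} (hB : BF V X F₁ ≤ cj h Q0) {i : ι} (hE : cj h (cl V (X i)) ≤ EE V' F₁) {x : G}
    (hx : x ∈ X i) : BF V X F₁ ≤ cj (h * x) Q0 := by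
  have h1 : BF V X F₁ ≤ centralizer ((cj h (cl V (X i)) : Subgroup G) : Set G) := by
    refine B_le fun j y hy => ?_
    exact comm_of_le' (t.pan j) (t.pan i) (t.noov j) (t.noov i) (t.sm j) (t.sm i) (t.two j) (t.two i)
      ((cjU_le_B j hy).trans hB) ((hE.trans NOne.Flat.Hyp.E_le_W).trans (t.W_le_cj hy))
  have h2 : BF V X F₁ ≤ cj h (o2 (X i)) :=
    (t.pan i).le_cj_o2 t.isPGroup_B (hB.trans (cj_mono h (t.pan i).Q0_X)) h1
  have h3 : cj h (o2 (X i)) = cj (h * x) (o2 (X i)) := by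
    rw [← cj_cj, cj_of_le (ChoiceSit.le_normalizer_o2 (X i)) hx]
  rw [h3] at h2
  refine (t.pan i).le_cj_Q0_of t.isPGroup_B
    (h2.trans (cj_mono _ ((t.pan i).o2_le_T.trans (t.pan i).T_le))) ?_
  refine h1.trans (centralizer_le ?_)
  rw [← cj_cj]
  exact cj_mono h (cj_le_cl hx)

theorem cj_Q0 {l : G} (hl : l ∈ L) : cj l Q0 = Q0 := by
  obtain ⟨i, -⟩ := t.WX
  exact (t.pan i).cj_Q0 hl

/-- **(2)** the critical panel -/
theorem exists_gal {H : Subgroup G} (hH : H ≤ (⨆ i, X i) ⊔ L) (hLH : L ≤ H) (hXH : ∀ i, X i ≤ H)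
    (hE : ¬ cl V H ≤ EE V' F₁) :
    ∃ h ∈ H, BF V X F₁ ≤ cj h Q0 ∧ ∃ i, ¬ cj h (cl V (X i)) ≤ EE V' F₁ := by
  by_contra hcon
  push Not at hcon
  apply hE
  have h0 : BF V X F₁ ≤ cj 1 Q0 := by
    rw [cj_one]; exact t.B_le_W.trans t.WQ
  have key : ∀ h ∈ H, BF V X F₁ ≤ cj h Q0 := by
    intro h hh
    have hh' := hH hh
    have hcl : (⨆ i, X i) ⊔ L = closure ((⋃ i, (X i : Set G)) ∪ (L : Set G)) := by
      rw [Subgroup.closure_union, closure_eq, Subgroup.closure_iUnion]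
      simp only [closure_eq]
    rw [hcl] at hh'
    have h1 : h ∈ H ∧ BF V X F₁ ≤ cj h Q0 := by
      induction hh' using Subgroup.closure_induction_right with
      | one => exact ⟨one_mem _, h0⟩
      | mul_right a _ b hb ih =>
        have ih' := ih (by
          rcases hb with hb | hb
          · obtain ⟨i, hi⟩ := Set.mem_iUnion.1 hb
            have := mul_mem hh (inv_mem (hXH i hi))
            rwa [mul_inv_cancel_right] at this
          · have := mul_mem hh (inv_mem (hLH hb))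
            rwa [mul_inv_cancel_right] at this)
        refine ⟨hh, ?_⟩
        rcases hb with hb | hb
        · obtain ⟨i, hi⟩ := Set.mem_iUnion.1 hb
          exact t.gal_step ih'.2 (hcon a ih'.1 ih'.2 i) hi
        · rw [← cj_cj, t.cj_Q0 hb]
          exact ih'.2
      | mul_inv_cancel a _ b hb ih =>
        have ih' := ih (by
          rcases hb with hb | hb
          · obtain ⟨i, hi⟩ := Set.mem_iUnion.1 hb
            have := mul_mem hh (hXH i hi)
            rwa [inv_mul_cancel_right] at this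
          · have := mul_mem hh (hLH hb)
            rwa [inv_mul_cancel_right] at this)
        refine ⟨hh, ?_⟩
        rcases hb with hb | hb
        · obtain ⟨i, hi⟩ := Set.mem_iUnion.1 hb
          exact t.gal_step ih'.2 (hcon a ih'.1 ih'.2 i) (inv_mem hi)
        · rw [← cj_cj, t.cj_Q0 (inv_mem hb)]
          exact ih'.2
    exact h1.2
  obtain ⟨i, -⟩ := t.WX
  exact cl_le fun h hh => (cj_mono h (le_cl V (X i))).trans (hcon h hh (key h hh) i)

end BtF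

end Cfsg.Agent.Omega.NO3b.BetaTwo
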