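import Cfsg.Agent.Omega.NO3b.BetaTwo.FamDef
import Cfsg.Agent.Omega.NO3b.BetaTwo.Line

/-!
# THEOREM BETA2 for a family of panels (helper506, bb #21336 (A)), (3) and (4)

`BtF.exists_B`, `BtF.relIndex_B`, `BtF.B_nle` (3), `BtF.line` (4) : `Line.lean` with `B = BF V X F₁`.
-/

set_option autoImplicit false

namespace Cfsg.Agent.Omega.NO3b.BetaTwo

open Subgroup Cfsg
open Cfsg.Agent.ZN.ChoiceBase (cj cj_cj cj_mono)
open Cfsg.Agent.Omega.NO3b.EZero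
open Cfsg.Agent.Omega.NO3b.K0 (cj_of_le)
open Cfsg.Agent.Omega.NOne.Flat (EE WW NN)
open Cfsg.Agent.Omega.NOne.NearFF (c)

universe u v

namespace BtF

variable {G : Type u} [Group G] [Finite G] {ι : Type v} {V : Subgroup G} {F T X : ι → Subgroup G}
  {L Q0 V' F₁ : Subgroup G} (t : BtF V F T X L Q0 V' F₁)
include t

theorem bn : BN V' F₁ (BF V X F₁) := ⟨t.B_le_W, X'_norm_B⟩

/-- **(3)** -/
theorem exists_B {w : G} (hw : w ∈ V') (hwE : w ∉ EE V' F₁) {r : G} (hr : r ∈ V' ⊓ BF V X F₁) :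
    ∃ b ∈ BF V X F₁, c w b * r⁻¹ ∈ F₁ := by
  obtain ⟨s, hs, h1⟩ := t.bn.surj t.hy hw hwE hr
  refine ⟨s, hs, ?_⟩
  rwa [t.hy.inv (t.hy.c_memV hw (t.B_le_W hs)), ← t.hy.inv hr.1] at h1

/-- **(3)** -/
theorem relIndex_B : (NN V' F₁).relIndex (BF V X F₁) = F₁.relIndex (V' ⊓ BF V X F₁) := t.bn.relIndex_eq t.hy

theorem B_nle : ¬ BF V X F₁ ≤ NN V' F₁ := by
  intro h0
  obtain ⟨i, hi⟩ := t.WX
  have h1 := t.relIndex_B
  rw [relIndex_eq_one.2 h0] at h1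
  have h2 : V' ⊓ BF V X F₁ ≤ F₁ := relIndex_eq_one.1 h1.symm
  have h3 : cl V (X i) ≤ F₁ := (le_inf (t.UV i) (U_le_B i)).trans h2
  have h4 : WW V' F₁ ≤ centralizer (cl V (X i) : Set G) :=
    NOne.Flat.Hyp.W_le_X.trans (centralizer_le h3)
  exact hi ((t.pan i).le_o2_of_cent_U NOne.Flat.Hyp.W_isPGroup (t.WQ.trans (t.pan i).Q0_X) h4)

/-- **(4)** -/
theorem line {h : G} {i : ι} (hU : cj h (cl V (X i)) ≤ V') {x : G} (hx : x ∈ X i)
    (hn : BF V X F₁ ≤ normalizer ((cj (h * x) V : Subgroup G) : Set G)) :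
    BF V X F₁ ≤ centralizer ((cj (h * x) V : Subgroup G) : Set G) := by
  have h1 : cj (h * x) V ≤ V' := by
    rw [← cj_cj]
    exact (cj_mono h (cj_le_cl hx)).trans hU
  by_cases hE : cj (h * x) V ≤ EE V' F₁
  · refine B_le fun j y hy => ?_
    have h2 : cl V (X j) ≤ centralizer ((cj (y⁻¹ * (h * x)) V : Subgroup G) : Set G) := by
      refine cent_symm (t.sm j (y⁻¹ * (h * x)) ?_ ?_)
      · rw [← cj_cj]
        exact ((cj_mono _ hE).trans (Bt.conjE_le_W' (inv_mem hy))).trans (t.WQ.trans (t.pan j).Q0_X)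
      · have h3 := cj_norm (g := y⁻¹) hn
        rw [cj_of_le X'_norm_B (inv_mem hy), cj_cj] at h3
        exact (U_le_B j).trans h3
    have h3 := cj_cent (g := y) h2
    rwa [cj_cj, mul_inv_cancel_left] at h3
  · have hF : cj (h * x) V ⊓ F₁ = ⊥ := by
      by_contra h2
      exact hE (t.le_E h1 h2)
    exact absurd hn (t.bn.no_line t.hy h1 hE hF ((t.pan i).nff.cj _) t.B_nle t.B_sq t.B_comm)

end BtF

end Cfsg.Agent.Omega.NO3b.BetaTwo
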