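import Cfsg.Agent.Omega.NO3b.BetaTwo.FamDef
import Cfsg.Agent.Omega.NO3b.BetaTwo.Plug
import Cfsg.Agent.Omega.NO3b.BetaTwo.NoOver

/-!
# THEOREM BETA2 for a family of panels (helper506, bb #21336 (A)): the frame at a member of the chain

`Stage S L`, `(F i, T i, X i)` panels of `V = VL S L` over `Z`, `J = ⟨ML S L, X i⟩` 2-local (`JJ`), `V_J = zl S J` not FF
and not in `O₂(C_G(Z))`: `exists_btF`.
-/

set_option autoImplicit false

namespace Cfsg.Agent.Omega.NO3b.BetaTwo

open Subgroup Cfsg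
open Cfsg.Agent.ZN (o2 zc zl)
open Cfsg.Agent.ZN.ChoiceBase hiding mem_zc
open Cfsg.Agent.ZN.ChoiceSit (o2_le_syl)
open Cfsg.Agent.Omega.NO3b.EZero (NotFF Par cent_symm cj_cent cl le_cl cj_le_cl cl_le le_normalizer_cl)
open Cfsg.Agent.Omega.NO3b.Alpha (Fl)
open Cfsg.Agent.Omega.NO3b.Wc
open Cfsg.Agent.Omega.NO3b.Exit
open Cfsg.Agent.Omega.NO3b.Chain
open Cfsg.Agent.Omega.NO3b.K0.Mix (Pan SM Two)
open Cfsg.Agent.Omega.NOne.Flat (EE WW NN)
open Cfsg.Agent.Omega.NOne.NearFF (c)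
open Cfsg.Agent.MinSimple.VModule (zc_le_zl le_normalizer_zl zl_le le_normalizer_o2 le_o2 mem_normalizer_of_map_le)

universe u v

variable {G : Type u} [Group G]

/-- `J = ⟨M(L), X i⟩` -/
def JJ {ι : Type v} (S L : Subgroup G) (X : ι → Subgroup G) : Subgroup G := ML S L ⊔ ⨆ i, X i

variable [Finite G] {S : Sylow 2 G} {L : Subgroup G} {ι : Type v} {F T X : ι → Subgroup G}

section

variable (h : Stage S L) (hc : IsCharacteristicTwoType G) (hne : zc (S : Subgroup G) ≠ ⊥)
  (f : ∀ i, Fl S (VL (S : Subgroup G) L) (F i) (T i))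
  (p : ∀ i, Par (VL (S : Subgroup G) L) (F i) (T i) (X i)) (h2 : ∀ i, Two (VL (S : Subgroup G) L) (X i))
  (hloc : ∃ R : Subgroup G, R ≠ ⊥ ∧ IsPGroup 2 R ∧ JJ (S : Subgroup G) L X ≤ normalizer (R : Set G))
include h hc hne f p h2 hloc

theorem exists_btF (hn : NotFF (zl (S : Subgroup G) (JJ (S : Subgroup G) L X)))
    (hV : ¬ zl (S : Subgroup G) (JJ (S : Subgroup G) L X) ≤ o2 (centralizer (zc (S : Subgroup G) : Set G))) :
    ∃ F₁ : Subgroup G, BtF (VL (S : Subgroup G) L) F T X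
      (normalizer (((S : Subgroup G) ⊓ centralizer (VL (S : Subgroup G) L : Set G) : Subgroup G) : Set G))
      ((S : Subgroup G) ⊓ centralizer (VL (S : Subgroup G) L : Set G))
      (VL (S : Subgroup G) (LH (S : Subgroup G) (JJ (S : Subgroup G) L X))) F₁ ∧
      ¬ cl (VL (S : Subgroup G) L) (JJ (S : Subgroup G) L X) ≤
        EE (VL (S : Subgroup G) (LH (S : Subgroup G) (JJ (S : Subgroup G) L X))) F₁ ∧
      cl (VL (S : Subgroup G) L) (JJ (S : Subgroup G) L X) ≤
        VL (S : Subgroup G) (LH (S : Subgroup G) (JJ (S : Subgroup G) L X)) := by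
  set V := VL (S : Subgroup G) L with hVd
  set J := JJ (S : Subgroup G) L X with hJ
  set V' := VL (S : Subgroup G) (LH (S : Subgroup G) J) with hV'
  set B := WH (S : Subgroup G) L with hBd
  have a := h.adm hc hne
  have l := h.lines hc hne
  have hOff := Final.stmtOff G
  obtain ⟨R, hR, hR2, hJR⟩ := hloc
  have hMJ : ML (S : Subgroup G) L ≤ J := le_sup_left
  have hXJ : ∀ i, X i ≤ J := fun i => (le_iSup X i).trans le_sup_right
  have hSJ : (S : Subgroup G) ≤ J := h.S_le.trans hMJ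
  have char2 : J ⊓ centralizer (o2 J : Set G) ≤ o2 J := char2_of_loc hc hSJ hR2 hR hJR
  have pn : ∀ i, Pan V (F i) (T i) (X i)
      (normalizer (((S : Subgroup G) ⊓ centralizer (V : Set G) : Subgroup G) : Set G))
      ((S : Subgroup G) ⊓ centralizer (V : Set G)) := fun i =>
    pan (f i) l (p i) fun g hg => Alpha.ti hc l g hg
  have hBT : ∀ i, B ≤ T i := fun i => by
    have hQ := (f i).Q0_le
    rwa [h.toRoot.cs_V] at hQ
  have root : Root S (LH (S : Subgroup G) J) := root_LH hSJ char2 hn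
  have hle : zl (S : Subgroup G) J ≤ V' := by
    have h1 := root.zl_le_V
    rwa [zl_LH hSJ] at h1
  have hVJ : V ≤ zl (S : Subgroup G) J := NOThreeL.Star.zl_mono _ hMJ
  have hVH : cl V J ≤ zl (S : Subgroup G) J := by
    refine cl_le fun x hx => ?_
    have h1 := cj_mono x hVJ
    rwa [cj_eq_of_mem_normalizer (le_normalizer_zl _ _ hx)] at h1
  have hHV : zl (S : Subgroup G) J ≤ cl V J :=
    zl_le (l.ZV.trans (le_cl _ _)) (le_normalizer_cl V J)
  have hUH : ∀ i, cl V (X i) ≤ zl (S : Subgroup G) J := fun i => cl_le fun x hx =>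
    (cj_le_cl (V := V) (hXJ i hx)).trans hVH
  -- `W_F ≤ S` implies `W_F ≤ B`
  have hWB : ∀ F, MaxBad V' F → WW V' F ≤ (S : Subgroup G) → WW V' F ≤ B := by
    intro F hF hFS
    refine le_trans (le_inf hFS ?_) a.cs.le
    by_contra hne
    have hoff := off_of hc hOff root hF hFS (hVJ.trans hle) a.low hne
    have h3 := a.nff _ (WW_pgroup _ _) (hFS.trans a.lines.S_le) hoff.sq hoff.comm hne
    exact absurd (FFThm.relIndex_le_iff.1 hoff.le) (not_le.2 h3)
  have hWHle : WH (S : Subgroup G) (LH (S : Subgroup G) J) ≤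
      (S : Subgroup G) ⊓ centralizer (zl (S : Subgroup G) J : Set G) := by
    have h1 := WH_le (S : Subgroup G) (LH (S : Subgroup G) J)
    unfold QL at h1
    rwa [zl_LH hSJ] at h1
  have hWHB : WH (S : Subgroup G) (LH (S : Subgroup G) J) ≤ B :=
    (hWHle.trans (inf_le_inf_left _ (centralizer_le hVJ))).trans a.cs.le
  obtain ⟨F0, hF0, hS0, hne0⟩ := exists_WW hc (S_ne hne) root (fun h0 => hV (hle.trans h0))
  rw [zl_LH hSJ] at hne0
  set Fam : Set (Subgroup G) := {D | D = WH (S : Subgroup G) (LH (S : Subgroup G) J) ∨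
      ∃ F, MaxBad V' F ∧ WW V' F = D ∧ WW V' F ≤ (S : Subgroup G)} with hFam
  have hFamB : ∀ D ∈ Fam, D ≤ B := by
    rintro D (rfl | ⟨F, hF, rfl, hFS⟩)
    · exact hWHB
    · exact hWB F hF hFS
  have hcl : ∀ g ∈ J, (∀ D ∈ Fam, cj g D ≤ (S : Subgroup G)) → ∀ D ∈ Fam, cj g D ≤ sSup Fam := by
    intro g hg hgS
    have hgM : g ∈ ML (S : Subgroup G) (LH (S : Subgroup G) J) := mem_ML_of_le (hgS _ (Or.inl rfl))
    rintro D (rfl | ⟨F, hF, rfl, hFS⟩)
    · rw [cj_eq_of_mem_normalizer hgM]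
      exact le_sSup (Or.inl rfl)
    · have h1 := WW_cj (F := F) (ML_le_norm_V _ _ hgM)
      have h3 := hgS _ (Or.inr ⟨F, hF, rfl, hFS⟩)
      rw [← h1] at h3 ⊢
      exact le_sSup (Or.inr ⟨cj g F, hF.cj (ML_le_norm_V _ _ hgM), rfl, h3⟩)
  have hex : ∃ i, ∃ D ∈ Fam, ¬ D ≤ o2 (X i) := by
    by_contra hcon
    push Not at hcon
    have hKB : sSup Fam ≤ B := sSup_le hFamB
    have hKS : sSup Fam ≤ (S : Subgroup G) := hKB.trans a.wc.le
    have hcl' : ∀ g ∈ J, cj g (sSup Fam) ≤ (S : Subgroup G) → cj g (sSup Fam) ≤ sSup Fam := by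
      intro g hg hgS
      rw [cj_sSup]
      exact iSup_le fun D => hcl g hg (fun D hD => (cj_mono g (le_sSup hD)).trans hgS) D D.2
    have hcore : sSup Fam ≤ o2 J := by
      refine le_o2 (hKS.trans hSJ) (S.isPGroup'.to_le hKS) (sup_le ?_ (iSup_le fun i => ?_))
      · intro m hm
        refine mem_normalizer_of_map_le (hcl' m (hMJ hm) ?_)
        have h1 := cj_mono m hKB
        rw [cj_eq_of_mem_normalizer (show m ∈ normalizer (B : Set G) from hm)] at h1
        exact h1.trans a.wc.le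
      · intro x hx
        refine mem_normalizer_of_map_le (hcl' x (hXJ i hx) ?_)
        have h1 := cj_mono x (sSup_le (hcon i) : sSup Fam ≤ o2 (X i))
        rw [cj_eq_of_mem_normalizer (le_normalizer_o2 _ hx)] at h1
        exact h1.trans ((o2_le_syl ((f i).sylX (p i))).trans (f i).T_le)
    exact hne0 (((le_sSup (a := WW V' F0) (Or.inr ⟨F0, hF0, rfl, hS0⟩)).trans hcore).trans (o2_cent hSJ char2))
  obtain ⟨i, D, hD, hDX⟩ := hex
  have hcen : ∀ D, D ≤ B → D ≤ centralizer (zl (S : Subgroup G) J : Set G) → D ≤ o2 (X i) := fun D hDB hDc =>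
    (pn i).le_o2_of_cent_U (S.isPGroup'.to_le (hDB.trans a.wc.le)) ((hDB.trans (hBT i)).trans (p i).T_le)
      (hDc.trans (centralizer_le (hUH i)))
  rcases hD with rfl | ⟨F₁, hF₁, rfl, hFS⟩
  · exact absurd (hcen _ hWHB (hWHle.trans inf_le_right)) hDX
  have hWB₁ := hWB F₁ hF₁ hFS
  have hy : NOne.Flat.Hyp V' F₁ := hyp_of hc root hF₁
  refine ⟨F₁, ?_, fun h0 => ?_, hVH.trans hle⟩
  · exact
      { pan := pn
        noov := fun i => K0.noOv FFBr.aStmt ((f i).sylX (p i)) ((f i).isMinPar l (p i))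
        sm := fun i => sm l hc (pn i)
        two := h2
        hno := fun i => noOver_of (Bridge.Sit.of_fl hc l (f i) (p i) (pn i).U_comm (pn i).U_sq (le_cl _ _)
          (le_normalizer_cl _ _))
        hy := hy
        hoff := hOff _ _ hy
        good := good_cj h hc
        WQ := by
          rw [h.toRoot.cs_V]
          exact hWB₁
        WX := ⟨i, hDX⟩
        UV := fun i => (hUH i).trans hle }
  · -- `W` centralises `V_J`
    have h1 : zl (S : Subgroup G) J ≤ EE V' F₁ := hHV.trans h0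
    have h3 := hy.off_of_le (hOff _ _ hy) h1
    have hW2 : IsPGroup 2 (WW V' F₁) := WW_pgroup _ _
    have hWH : WW V' F₁ ≤ normalizer (zl (S : Subgroup G) J : Set G) :=
      ((hWB₁.trans a.wc.le).trans hSJ).trans (le_normalizer_zl _ _)
    obtain ⟨e1, e2⟩ := hy.elem_W hle
    by_cases hcen' : WW V' F₁ ≤ centralizer (zl (S : Subgroup G) J : Set G)
    · exact hDX (hcen _ hWB₁ hcen')
    · have h4 := hn (WW V' F₁) hW2 hWH (fun s hs => by rw [pow_two]; exact e2 s hs)
        (fun s hs t ht => e1 s hs t ht) hcen'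
      exact absurd h3 (not_le.2 h4)

end

end Cfsg.Agent.Omega.NO3b.BetaTwo
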