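import Cfsg.Agent.Omega.NO3b.BetaTwo.FamCnt
import Cfsg.Agent.Omega.NO3b.BetaTwo.FamLine
import Cfsg.Agent.Omega.NO3b.BetaTwo.FamPlug
import Cfsg.Agent.Omega.NO3b.BetaTwo.FamAdm
import Cfsg.Agent.Omega.NO3b.BetaTwo.Key
import Cfsg.Agent.Omega.NO3b.BetaTwo.End

/-!
# THEOREM BETA2 for a family of panels (helper506, bb #21336 (A))

* `BtF.false` : the abstract form;
* `fam_stage` : at a member `L` of the chain, panels `(F i, T i, X i)` over `Z` with two noncentral factors,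
  `J = ⟨ML S L, X i⟩` 2-local, `V_J` not FF: `V_J ≤ O₂(C_G(Z))`;
* `fam_adm` : for an admissible `B`: `V'_J ≤ O₂(C_G(Z))`;
* `ff_adm` : `B` minimal admissible: `V_J` is FF.
-/

set_option autoImplicit false

namespace Cfsg.Agent.Omega.NO3b.BetaTwo

open Subgroup Cfsg
open Cfsg.Agent.ZN (o2 zc zl)
open Cfsg.Agent.ZN.ChoiceBase hiding mem_zc
open Cfsg.Agent.Omega.NO3b.EZero (NotFF Par cent_symm cj_cent cl le_cl cj_le_cl cl_le le_normalizer_cl)
open Cfsg.Agent.Omega.NO3b.Alpha (Fl)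
open Cfsg.Agent.Omega.NO3b.Wc
open Cfsg.Agent.Omega.NO3b.Exit
open Cfsg.Agent.Omega.NO3b.Chain
open Cfsg.Agent.Omega.NO3b.K0.Mix (Pan SM Two)
open Cfsg.Agent.Omega.NOne.Flat (EE WW NN)
open Cfsg.Agent.Omega.NOne.NearFF (c)

universe u v

variable {G : Type u} [Group G] [Finite G] {ι : Type v}

/-- **THEOREM BETA2 for a family**, abstract form -/
theorem BtF.false {V : Subgroup G} {F T X : ι → Subgroup G} {L Q0 V' F₁ : Subgroup G}
    (t : BtF V F T X L Q0 V' F₁) {H : Subgroup G} (hH : H ≤ (⨆ i, X i) ⊔ L) (hLH : L ≤ H) (hXH : ∀ i, X i ≤ H)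
    (hE : ¬ cl V H ≤ EE V' F₁) (hV' : cl V H ≤ V') : False := by
  obtain ⟨h, hh, hB, i, hn⟩ := t.exists_gal hH hLH hXH hE
  have hU : cj h (cl V (X i)) ≤ V' := by
    refine le_trans ?_ hV'
    unfold cl
    rw [EZero.cj_iSup]
    refine iSup_le fun x => ?_
    rw [cj_cj]
    exact cj_le_cl (mul_mem hh (hXH i x.2))
  have hc := t.count (i := i) hB hU hn fun x hx h1 => t.line hU hx h1
  have h0 : 0 < F₁.relIndex (V' ⊓ BF V X F₁) := Nat.pos_of_ne_zero index_ne_zero_of_finite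
  rw [t.relIndex_B] at hc
  obtain ⟨ρ, hρ⟩ := Key.key t.hy t.B_le_W BtF.X'_norm_B
    (fun w hw hwE r hr => t.exists_B hw hwE hr) t.B_nle (by omega)
  obtain ⟨j, hj⟩ := t.WX
  exact end_ (t.pan j) (t.noov j) (t.two j) t.hy t.hoff t.WQ hj t.V_le_F₁ (t.U_le_E j) ρ
    fun r hr hrF => hρ r ⟨t.UV j hr, BtF.U_le_B j hr⟩ hrF

variable {S : Sylow 2 G} {L B : Subgroup G} {F T X : ι → Subgroup G}

/-- **THEOREM BETA2 for a family**, at a member of the chain -/
theorem fam_stage (h : Stage S L) (hc : IsCharacteristicTwoType G) (hne : zc (S : Subgroup G) ≠ ⊥)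
    (f : ∀ i, Fl S (VL (S : Subgroup G) L) (F i) (T i))
    (p : ∀ i, Par (VL (S : Subgroup G) L) (F i) (T i) (X i)) (h2 : ∀ i, Two (VL (S : Subgroup G) L) (X i))
    (hloc : ∃ R : Subgroup G, R ≠ ⊥ ∧ IsPGroup 2 R ∧ JJ (S : Subgroup G) L X ≤ normalizer (R : Set G))
    (hn : NotFF (zl (S : Subgroup G) (JJ (S : Subgroup G) L X))) :
    zl (S : Subgroup G) (JJ (S : Subgroup G) L X) ≤ o2 (centralizer (zc (S : Subgroup G) : Set G)) := by
  by_contra hV
  obtain ⟨F₁, t, h1, h3⟩ := exists_btF h hc hne f p h2 hloc hn hV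
  have e : normalizer (((S : Subgroup G) ⊓ centralizer (VL (S : Subgroup G) L : Set G) : Subgroup G) : Set G) =
      ML (S : Subgroup G) L := by
    rw [h.toRoot.cs_V]
    rfl
  rw [e] at t
  refine t.false (H := JJ (S : Subgroup G) L X) (sup_le le_sup_right le_sup_left) le_sup_left
    (fun i => (le_iSup X i).trans le_sup_right) h1 h3

section adm

variable (a : Adm S L B) (hc : IsCharacteristicTwoType G)
  (f : ∀ i, Fl S (VB (S : Subgroup G) B) (F i) (T i))
  (p : ∀ i, Par (VB (S : Subgroup G) B) (F i) (T i) (X i))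
  (h2 : ∀ i, Two (VB (S : Subgroup G) B) (X i)) (hSne : (S : Subgroup G) ≠ ⊥)
  (hloc : ∃ R : Subgroup G, R ≠ ⊥ ∧ IsPGroup 2 R ∧ JB B X ≤ normalizer (R : Set G))
include a hc f p h2 hSne hloc

/-- **THEOREM BETA2 for a family**, for an admissible `B` -/
theorem fam_adm (hn : NotFF (zl (S : Subgroup G) (JB B X))) :
    VL (S : Subgroup G) (LH (S : Subgroup G) (JB B X)) ≤ o2 (centralizer (zc (S : Subgroup G) : Set G)) := by
  by_contra hV
  obtain ⟨F₁, t, h1, h3⟩ := exists_btF_adm a hc f p hloc h2 hSne hn hV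
  exact t.false (H := JB B X) (sup_le le_sup_right le_sup_left) NB_le_JB X_le_JB h1 h3

/-- `B` minimal admissible: `V_J` is FF for every nonempty family of panels with two noncentral factors. -/
theorem ff_adm [Nonempty ι] (hmin : ∀ B', Adm S L B' → B' ≤ B → B' = B) :
    ¬ NotFF (zl (S : Subgroup G) (JB B X)) := by
  intro hn
  obtain ⟨h1, h3, h4⟩ := closed_adm a hc f p hloc hn (fam_adm a hc f p h2 hSne hloc hn)
  exact h4 (hmin _ h1 h3)

end adm

end Cfsg.Agent.Omega.NO3b.BetaTwo
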