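import Cfsg.Agent.Omega.NO3b.BetaTwo.FamMain
import Cfsg.Agent.Omega.NO3b.Exit.AllLocal
import Cfsg.Agent.Omega.NOThreeL.HypGFrame

/-!
# THEOREM BETA2 in the frame `LocG` (NO-3L and NO-3S)

`LocG S M B`, `V = VB S B`:

* `LocG.gam_fam` : `V_J`, `J = ⟨N_G(B), X i⟩`, is FF for every nonempty family of panels over `Z`;
* `LocG.gam` : `V_H`, `H = ⟨N_G(B), X⟩`, is FF for every panel over `Z`.
-/

set_option autoImplicit false

namespace Cfsg.Agent.Omega.NOThreeL.HypGFrame.LocG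

open Subgroup Cfsg
open Cfsg.Agent.ZN (o2 zc zl)
open Cfsg.Agent.Omega.NO3b.EZero (NotFF Par cl)
open Cfsg.Agent.Omega.NO3b.Alpha (Fl)
open Cfsg.Agent.Omega.NO3b.Exit (Adm Fr VB)
open Cfsg.Agent.Omega.NO3b.BetaTwo (JB ff_adm)

universe u v

variable {G : Type u} [Group G] [Finite G] {S : Sylow 2 G} {M B : Subgroup G} (h : LocG S M B)
include h

/-- **every family of panels over `Z` has `V_J` FF** -/
theorem gam_fam (hc : IsCharacteristicTwoType G) (hSne : (S : Subgroup G) ≠ ⊥) {ι : Type v} [Nonempty ι]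
    (F T X : ι → Subgroup G)
    (f : ∀ i, Fl S (VB (S : Subgroup G) B) (F i) (T i)) (hZ : ∀ i, zc (S : Subgroup G) ≤ F i)
    (p : ∀ i, Par (VB (S : Subgroup G) B) (F i) (T i) (X i)) :
    ¬ NotFF (zl (S : Subgroup G) (JB B X)) := by
  have h2 : ∀ i, NO3b.K0.Mix.Two (VB (S : Subgroup G) B) (X i) := fun i => h.two hc hSne (f i) (hZ i) (p i)
  refine ff_adm h.adm hc f p h2 hSne ?_ h.min
  obtain ⟨R, hR, hR2, h3, h4⟩ := NO3b.Exit.exists_loc_fam FFBr.aStmt hc h.adm.lines F T X f p h2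
  rw [h.adm.cs] at h3
  exact ⟨R, hR, hR2, sup_le h3 (iSup_le h4)⟩

/-- **every panel over `Z` has `V_H` FF** -/
theorem gam (hc : IsCharacteristicTwoType G) (hSne : (S : Subgroup G) ≠ ⊥) {F T X : Subgroup G}
    (f : Fl S (VB (S : Subgroup G) B) F T) (hZ : zc (S : Subgroup G) ≤ F)
    (p : Par (VB (S : Subgroup G) B) F T X) :
    ¬ NotFF (zl (S : Subgroup G) (normalizer (B : Set G) ⊔ X)) := by
  have h1 := h.gam_fam hc hSne (ι := Unit) (fun _ => F) (fun _ => T) (fun _ => X) (fun _ => f) (fun _ => hZ)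
    fun _ => p
  have e : JB B (fun _ : Unit => X) = normalizer (B : Set G) ⊔ X := by
    rw [JB, iSup_const]
  rwa [e] at h1

end Cfsg.Agent.Omega.NOThreeL.HypGFrame.LocG
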